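import Mathlib
import Cfsg.Agent.Lib.Coprime.Action2
import Cfsg.Agent.Lib.Base.ThompsonFPF
import Cfsg.Agent.Lib.CNGroups.Basic

/-!
# Groups of order `q ^ 2` of operators with abelian fixed point groups: basic facts
-/

set_option autoImplicit false
set_option linter.style.haveILetI false
set_option linter.unusedSectionVars false

open scoped Pointwise commutatorElement

namespace CfsgLib.FgsB.AbCent

open Subgroup

variable {G : Type*} [Group G] [Finite G]

/-- `A` of order `q ^ 2` and exponent `q` normalises the `q'`-group `K`,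
and the fixed points of each of its nontrivial elements commute. -/
structure Pre (q : ℕ) (K A : Subgroup G) : Prop where
  prime : q.Prime
  comm : IsMulCommutative A
  exp : ∀ a ∈ A, a ^ q = 1
  card : Nat.card A = q ^ 2
  not_dvd : ¬ q ∣ Nat.card K
  norm : A ≤ normalizer (K : Set G)
  cent : ∀ a ∈ A, a ≠ 1 → IsMulCommutative ↥(K ⊓ centralizer ({a} : Set G))

/-- Moreover `A` has no common fixed points in `K`. -/
structure Act (q : ℕ) (K A : Subgroup G) : Prop extends Pre q K A where
  free : K ⊓ centralizer (A : Set G) = ⊥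

variable {q : ℕ} {K A : Subgroup G}

namespace Pre

variable (h : Pre q K A)
include h

theorem mono {H : Subgroup G} (hHK : H ≤ K) (hH : A ≤ normalizer (H : Set G)) : Pre q H A where
  prime := h.prime
  comm := h.comm
  exp := h.exp
  card := h.card
  not_dvd hd := h.not_dvd (hd.trans (card_dvd_of_le hHK))
  norm := hH
  cent a ha ha1 := ⟨⟨fun x y => by
    have := (h.cent a ha ha1).is_comm.comm ⟨x.1, hHK x.2.1, x.2.2⟩ ⟨y.1, hHK y.2.1, y.2.2⟩
    exact Subtype.ext (congrArg (fun z : ↥(K ⊓ centralizer ({a} : Set G)) => (z : G)) this)⟩⟩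

theorem solvable_A : Group.IsSolvable A :=
  haveI := h.comm
  Group.isSolvable_of_comm fun a b => mul_comm' a b

theorem coprime {U : Subgroup G} (hU : U ≤ K) : (Nat.card A).Coprime (Nat.card U) := by
  rw [h.card]
  exact Nat.Coprime.pow_left 2 (h.prime.coprime_iff_not_dvd.2
    fun hd => h.not_dvd (hd.trans (card_dvd_of_le hU)))

theorem not_isCyclic : ¬ IsCyclic A := by
  intro hc
  obtain ⟨g, hg⟩ := IsCyclic.exists_ofOrder_eq_natCard (α := A)
  have h1 : orderOf g ∣ q := orderOf_dvd_of_pow_eq_one (Subtype.ext (by simpa using h.exp g g.2))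
  rw [hg, h.card] at h1
  have h2 := Nat.le_of_dvd h.prime.pos h1
  have h3 := h.prime.two_le
  nlinarith

theorem orderOf_eq {a : G} (ha : a ∈ A) (ha1 : a ≠ 1) : orderOf a = q :=
  haveI := Fact.mk h.prime
  orderOf_eq_prime (h.exp a ha) ha1

theorem norm_centralizer {a : G} (ha : a ∈ A) :
    A ≤ normalizer ((centralizer ({a} : Set G) : Subgroup G) : Set G) := by
  have hle : A ≤ centralizer ({a} : Set G) := fun b hb => by
    rw [mem_centralizer_singleton_iff]
    exact congrArg Subtype.val (h.comm.is_comm.comm ⟨b, hb⟩ ⟨a, ha⟩)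
  exact hle.trans le_normalizer

theorem norm_inf {U : Subgroup G} (hU : A ≤ normalizer (U : Set G)) {a : G} (ha : a ∈ A) :
    A ≤ normalizer ((U ⊓ centralizer ({a} : Set G) : Subgroup G) : Set G) :=
  CfsgLib.Coprime.le_normalizer_inf_inf hU (h.norm_centralizer ha)

/-- An invariant subgroup is generated by the fixed points of the nontrivial elements. -/
theorem gen {U R : Subgroup G} (hUK : U ≤ K) (hU : A ≤ normalizer (U : Set G))
    (hR : ∀ a ∈ A, a ≠ 1 → U ⊓ centralizer ({a} : Set G) ≤ R) : U ≤ R :=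
  haveI := h.comm
  CfsgLib.Coprime.le_of_centralizer_le_of_not_isCyclic h.not_isCyclic hU (h.coprime hUK) hR

theorem zpowers_le {c : G} (hc : c ∈ A) : zpowers c ≤ A := Subgroup.zpowers_le.2 hc

/-- Two independent elements generate `A`. -/
theorem sup_eq {b c : G} (hb : b ∈ A) (hc : c ∈ A) (hc1 : c ≠ 1) (hbc : b ∉ zpowers c) :
    zpowers b ⊔ zpowers c = A := by
  have hle : zpowers b ⊔ zpowers c ≤ A := sup_le (h.zpowers_le hb) (h.zpowers_le hc)
  refine eq_of_le_of_card_ge hle ?_
  obtain ⟨i, hi, he⟩ := (Nat.dvd_prime_pow h.prime).1 (h.card ▸ card_dvd_of_le hle)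
  have hlt : Nat.card (zpowers c) < Nat.card ↥(zpowers b ⊔ zpowers c) := by
    refine lt_of_le_of_ne (card_le_of_le le_sup_right) fun e => hbc ?_
    rw [eq_of_le_of_card_ge le_sup_right e.ge]
    exact mem_sup_left (mem_zpowers b)
  rw [Nat.card_zpowers, h.orderOf_eq hc hc1, he] at hlt
  have : i = 2 := by
    by_contra hne
    have : q ^ i ≤ q ^ 1 := Nat.pow_le_pow_right h.prime.pos (by omega)
    rw [pow_one] at this
    omega
  rw [h.card, he, this]

omit h in
theorem centralizer_zpowers_eq (a : G) :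
    centralizer ((zpowers a : Subgroup G) : Set G) = centralizer ({a} : Set G) := by
  rw [zpowers_eq_closure, centralizer_closure]

theorem centralizer_eq_of_mem {a c : G} (ha : a ∈ A) (ha1 : a ≠ 1) (hc : c ∈ A) (hc1 : c ≠ 1)
    (hac : a ∈ zpowers c) : centralizer ({a} : Set G) = centralizer ({c} : Set G) := by
  have : zpowers a = zpowers c := eq_of_le_of_card_ge (Subgroup.zpowers_le.2 hac) (by
    rw [Nat.card_zpowers, Nat.card_zpowers, h.orderOf_eq ha ha1, h.orderOf_eq hc hc1])
  rw [← centralizer_zpowers_eq a, this, centralizer_zpowers_eq]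

/-- `C_K(a)` centralises each of its subgroups. -/
theorem fixed_le_centralizer {Y : Subgroup G} {a : G} (ha : a ∈ A) (ha1 : a ≠ 1)
    (hY : Y ≤ K ⊓ centralizer ({a} : Set G)) :
    K ⊓ centralizer ({a} : Set G) ≤ centralizer (Y : Set G) := fun _ hx =>
  mem_centralizer_iff.2 fun _ hy => congrArg Subtype.val
    ((h.cent a ha ha1).is_comm.comm ⟨_, hY hy⟩ ⟨_, hx⟩)

end Pre

namespace Act

variable (h : Act q K A)
include h

theorem mono {H : Subgroup G} (hHK : H ≤ K) (hH : A ≤ normalizer (H : Set G)) : Act q H A where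
  toPre := h.toPre.mono hHK hH
  free := le_bot_iff.1 ((inf_le_inf_right _ hHK).trans_eq h.free)

omit h in
theorem centralizer_zpowers_eq (a : G) :
    centralizer ((zpowers a : Subgroup G) : Set G) = centralizer ({a} : Set G) :=
  Pre.centralizer_zpowers_eq a

/-- Fixed points of two independent elements are trivial. -/
theorem fix_eq_bot {U : Subgroup G} (hUK : U ≤ K) {b c : G} (hb : b ∈ A) (hc : c ∈ A)
    (hc1 : c ≠ 1) (hbc : b ∉ zpowers c) :
    U ⊓ centralizer ({b} : Set G) ⊓ centralizer ({c} : Set G) = ⊥ := by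
  rw [eq_bot_iff]
  rintro x ⟨⟨hxU, hxb⟩, hxc⟩
  rw [← h.free]
  refine ⟨hUK hxU, ?_⟩
  have : zpowers b ⊔ zpowers c ≤ centralizer ({x} : Set G) := by
    refine sup_le ?_ ?_ <;> rw [Subgroup.zpowers_le, mem_centralizer_singleton_iff]
    · exact (mem_centralizer_singleton_iff.1 hxb).symm
    · exact (mem_centralizer_singleton_iff.1 hxc).symm
  rw [h.sup_eq hb hc hc1 hbc] at this
  exact mem_centralizer_iff.2 fun a ha => mem_centralizer_singleton_iff.1 (this ha)

/-- An invariant subgroup without fixed points of some nontrivial element is nilpotent. -/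
theorem isNilpotent_of_fpf {X : Subgroup G} (hX : A ≤ normalizer (X : Set G)) {c : G} (hc : c ∈ A)
    (hc1 : c ≠ 1) (hfix : X ⊓ centralizer ({c} : Set G) = ⊥) : Group.IsNilpotent X := by
  refine CfsgLib.Base.IsFPF.isNilpotent (A := zpowers c) ⟨(h.zpowers_le hc).trans hX, ?_⟩
    (zpowers_ne_bot.2 hc1)
  intro a ha ha1
  rw [h.centralizer_eq_of_mem (h.zpowers_le hc ha) ha1 hc hc1 ha, hfix]

/-- Coprime invariant subgroups without fixed points of one element commute. -/
theorem commute_of_fpf {W D : Subgroup G} (hWK : W ≤ K) (hDK : D ≤ K)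
    (hW : A ≤ normalizer (W : Set G)) (hD : A ≤ normalizer (D : Set G))
    (hDW : D ≤ normalizer (W : Set G)) (hcop : (Nat.card D).Coprime (Nat.card W)) {c : G}
    (hc : c ∈ A) (hc1 : c ≠ 1) (hfW : W ⊓ centralizer ({c} : Set G) = ⊥)
    (hfD : D ⊓ centralizer ({c} : Set G) = ⊥) : D ≤ centralizer (W : Set G) := by
  have hdisj : D ⊓ W = ⊥ := CfsgLib.Coprime.inf_eq_bot_of_coprime hcop
  have hfix : (D ⊔ W) ⊓ centralizer ({c} : Set G) = ⊥ := by
    rw [eq_bot_iff]
    rintro g ⟨hg, hgc⟩
    obtain ⟨d, hd, w, hw, rfl⟩ := (CfsgLib.Coprime.mem_sup_iff_of_le_normalizer hDW).1 hg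
    have hd' : c * d * c⁻¹ ∈ D := (mem_normalizer_iff.1 (hD hc) d).1 hd
    have hw' : c * w * c⁻¹ ∈ W := (mem_normalizer_iff.1 (hW hc) w).1 hw
    have heq : c * d * c⁻¹ * (c * w * c⁻¹) = d * w := by
      have h1 : c * (d * w) = d * w * c := (mem_centralizer_singleton_iff.1 hgc).symm
      calc c * d * c⁻¹ * (c * w * c⁻¹) = c * (d * w) * c⁻¹ := by group
        _ = d * w := by rw [h1]; group
    have h2 : d⁻¹ * (c * d * c⁻¹) = w * (c * w * c⁻¹)⁻¹ := by
      rw [eq_mul_inv_iff_mul_eq, mul_assoc, heq]; group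
    have h3 : d⁻¹ * (c * d * c⁻¹) ∈ D ⊓ W :=
      mem_inf.2 ⟨D.mul_mem (D.inv_mem hd) hd', h2 ▸ W.mul_mem hw (W.inv_mem hw')⟩
    rw [hdisj, mem_bot, inv_mul_eq_one] at h3
    have h4 : w = c * w * c⁻¹ := by
      rw [← h3] at heq; exact (mul_left_cancel heq).symm
    have fd : d ∈ D ⊓ centralizer ({c} : Set G) :=
      ⟨hd, mem_centralizer_singleton_iff.2 (eq_mul_inv_iff_mul_eq.1 h3)⟩
    have fw : w ∈ W ⊓ centralizer ({c} : Set G) :=
      ⟨hw, mem_centralizer_singleton_iff.2 (eq_mul_inv_iff_mul_eq.1 h4)⟩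
    rw [hfD, mem_bot] at fd
    rw [hfW, mem_bot] at fw
    rw [fd, fw, one_mul]
    exact one_mem _
  have hnil := h.isNilpotent_of_fpf (X := D ⊔ W)
    (CfsgLib.Coprime.le_normalizer_sup_sup hD hW) hc hc1 hfix
  intro d hd
  rw [mem_centralizer_iff]
  intro w hw
  refine (CfsgLib.CNGroups.commute_of_coprime hnil (mem_sup_left hd) (mem_sup_right hw) ?_).eq.symm
  exact (hcop.coprime_dvd_left (orderOf_dvd_natCard _ hd)).coprime_dvd_right
    (orderOf_dvd_natCard _ hw)

/-- The unique invariant Sylow subgroup. -/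
theorem exists_sylow {H : Subgroup G} (hHK : H ≤ K) (hH : A ≤ normalizer (H : Set G)) (t : ℕ)
    [Fact t.Prime] : ∃ S : Subgroup G, S ≤ H ∧ IsPGroup t S ∧ A ≤ normalizer (S : Set G) ∧
      ¬ t ∣ S.relIndex H ∧
      ∀ U : Subgroup G, U ≤ H → IsPGroup t U → A ≤ normalizer (U : Set G) → U ≤ S := by
  have hcop := h.coprime hHK
  have hsol : Group.IsSolvable A ∨ Group.IsSolvable H := Or.inl h.solvable_A
  obtain ⟨P, hP⟩ := CfsgLib.Coprime.exists_invariant_sylow (p := t) hH hcop hsol
  refine ⟨(P : Subgroup H).map H.subtype, map_subtype_le _, P.2.map _, hP, ?_, ?_⟩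
  · rw [relIndex, subgroupOf, comap_map_eq_self_of_injective H.subtype_injective]
    exact P.not_dvd_index
  · intro U hU hUt hUA
    obtain ⟨P', hUP', hP'⟩ := CfsgLib.Coprime.exists_invariant_sylow_ge hH hcop hsol hU hUt hUA
    obtain ⟨c, hc, he⟩ := CfsgLib.Coprime.invariant_sylow_conj hH hcop hsol P' P hP' hP
    have hc1 : c = 1 := by
      have : (c : G) ∈ K ⊓ centralizer (A : Set G) := ⟨hHK c.2, hc⟩
      rw [h.free, mem_bot] at this
      exact Subtype.ext this
    rw [hc1, map_one, one_smul] at he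
    exact he ▸ hUP'

end Act

end CfsgLib.FgsB.AbCent
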