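import Cfsg.Agent.Lib.FgsB.AbCent.Layer
import Cfsg.Agent.Lib.Base.Nilpotent

/-!
# Solvable groups with abelian fixed point groups are nilpotent-by-abelian
-/

set_option autoImplicit false
set_option linter.style.haveILetI false
set_option linter.unusedSectionVars false

open scoped Pointwise commutatorElement

namespace CfsgLib.FgsB.AbCent

open Subgroup

universe u

variable {G : Type u} [Group G] [Finite G]

/-- Elements of `H` commuting with `N` modulo `L`. -/
def modCent (H N L : Subgroup G) (hn : H ≤ normalizer (L : Set G)) : Subgroup G where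
  carrier := {g | g ∈ H ∧ ∀ n ∈ N, g * n * g⁻¹ * n⁻¹ ∈ L}
  one_mem' := ⟨one_mem H, fun n _ => by simp⟩
  mul_mem' := by
    rintro a b ⟨ha, ha'⟩ ⟨hb, hb'⟩
    refine ⟨mul_mem ha hb, fun n hn' => ?_⟩
    have e : a * b * n * (a * b)⁻¹ * n⁻¹ =
        a * (b * n * b⁻¹ * n⁻¹) * a⁻¹ * (a * n * a⁻¹ * n⁻¹) := by group
    rw [e]
    exact mul_mem ((mem_normalizer_iff.1 (hn ha) _).1 (hb' n hn')) (ha' n hn')
  inv_mem' := by
    rintro a ⟨ha, ha'⟩
    refine ⟨inv_mem ha, fun n hn' => ?_⟩
    have h1 := (mem_normalizer_iff''.1 (hn ha) _).1 (inv_mem (ha' n hn'))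
    simpa [mul_assoc] using h1

theorem inf_centralizer_ne_bot_of_pGroup {t : ℕ} [Fact t.Prime] {V E : Subgroup G}
    (hV : IsPGroup t V) (hE : IsPGroup t E) (hn : E ≤ normalizer (V : Set G)) (hne : V ≠ ⊥) :
    V ⊓ centralizer (E : Set G) ≠ ⊥ := by
  have hp := isPGroup_sup hV hE hn
  haveI := hp.isNilpotent
  haveI : (V.subgroupOf (V ⊔ E)).Normal :=
    normal_subgroupOf_of_le_normalizer (sup_le le_normalizer hn)
  have h0 : V.subgroupOf (V ⊔ E) ≠ ⊥ := fun e => hne (le_bot_iff.1 fun v hv => by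
    have h1 : (⟨v, mem_sup_left hv⟩ : ↥(V ⊔ E)) ∈ V.subgroupOf (V ⊔ E) := hv
    rw [e, Subgroup.mem_bot] at h1
    exact Subgroup.mem_bot.2 (congrArg Subtype.val h1))
  obtain ⟨⟨x, hx⟩, hx1⟩ := (ne_bot_iff_exists_ne_one).1
    (CfsgLib.Base.inf_center_ne_bot_of_isNilpotent (N := V.subgroupOf (V ⊔ E)) h0)
  intro e
  have h1 : (x : G) ∈ V ⊓ centralizer (E : Set G) := ⟨hx.1, mem_centralizer_iff.2 fun y hy =>
    congrArg Subtype.val (mem_center_iff.1 hx.2 ⟨y, mem_sup_right hy⟩)⟩
  rw [e, Subgroup.mem_bot] at h1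
  exact hx1 (Subtype.ext (Subtype.ext h1))

theorem le_normalizer_of_centralizes {X U : Subgroup G} (h : X ≤ centralizer (U : Set G)) :
    X ≤ normalizer (U : Set G) := h.trans (centralizer_le_normalizer _)

namespace Act

variable {q : ℕ} {K A : Subgroup G} (h : Act q K A)
include h

theorem eq_top_of_layers {H L : Subgroup G} (hHK : H ≤ K) (hH : A ≤ normalizer (H : Set G))
    (hsol : Group.IsSolvable H) {r : ℕ} [Fact r.Prime] {V : Subgroup G} (hVK : V ≤ K)
    (hVA : A ≤ normalizer (V : Set G)) (hVn : H ≤ normalizer (V : Set G)) (hVr : IsPGroup r V)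
    (hLH : L ≤ H) (hLA : A ≤ normalizer (L : Set G)) (hLn : H ≤ normalizer (L : Set G))
    (hLeq : H ⊓ centralizer (V : Set G) ≤ L)
    (hr_case : ∀ E : Subgroup G, E ≤ H → IsPGroup r E → A ≤ normalizer (E : Set G) →
      H ≤ normalizer ((L ⊔ E : Subgroup G) : Set G) → E ≤ L)
    {x : G} (hx : x ∈ A) (hx1 : x ≠ 1) (hfx : V ⊓ centralizer ({x} : Set G) = ⊥) :
    H ≤ L ⊔ (H ⊓ centralizer ({x} : Set G)) := by
  set C := H ⊓ centralizer ({x} : Set G) with hC
  obtain ⟨N, ⟨hLN, hNH, hNA, hNn, hNC⟩, hmax⟩ := Set.Finite.exists_maximal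
    (Set.toFinite {N : Subgroup G | L ≤ N ∧ N ≤ H ∧ A ≤ normalizer (N : Set G) ∧
      H ≤ normalizer (N : Set G) ∧ N ≤ L ⊔ C}) ⟨L, le_rfl, hLH, hLA, hLn, le_sup_left⟩
  by_contra hcon
  obtain ⟨t, T, ht, hTH, hTt, hTA, hTN, hTn, -, hTi⟩ :=
    h.exists_layer hHK hH hsol hNH hNA hNn (fun e => hcon (by rw [e] at hNC; exact hNC))
  haveI := Fact.mk ht
  refine hTN (le_sup_right.trans (hmax ⟨hLN.trans le_sup_left, sup_le hNH hTH,
    CfsgLib.Coprime.le_normalizer_sup_sup hNA hTA, hTn, sup_le hNC ?_⟩ le_sup_left))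
  by_cases htr : t = r
  · subst htr
    refine le_trans ?_ (le_sup_left : L ≤ L ⊔ C)
    have hS : T ≤ modCent H N L hLn := by
      have hfix : ∀ n ∈ N, ∀ a ∈ zpowers x, a * n * a⁻¹ * n⁻¹ ∈ L := by
        intro n hn a ha
        obtain ⟨c, hc, l, hl, rfl⟩ :=
          (CfsgLib.Coprime.mem_sup_iff_of_le_normalizer (H := C) (N := L) (inf_le_left.trans hLn)).1
            (show n ∈ C ⊔ L by rw [sup_comm]; exact hNC hn)
        have hac : a * c = c * a := by
          have h1 : x ∈ centralizer ({c} : Set G) :=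
            mem_centralizer_singleton_iff.2 (mem_centralizer_singleton_iff.1 hc.2).symm
          exact mem_centralizer_singleton_iff.1 ((Subgroup.zpowers_le.2 h1) ha)
        have e : a * (c * l) * a⁻¹ * (c * l)⁻¹ = c * (a * l * a⁻¹ * l⁻¹) * c⁻¹ := by
          calc a * (c * l) * a⁻¹ * (c * l)⁻¹ = (a * c) * l * a⁻¹ * l⁻¹ * c⁻¹ := by group
            _ = _ := by rw [hac]; group
        rw [e]
        exact (mem_normalizer_iff.1 (hLn hc.1) _).1
          (mul_mem ((mem_normalizer_iff.1 (hLA (h.zpowers_le hx ha)) l).1 hl) (inv_mem hl))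
      have hcH : ⁅H, zpowers x⁆ ≤ modCent H N L hLn := by
        rw [commutator_le]
        intro g hg a ha
        refine ⟨by
          rw [commutatorElement_def, mul_assoc, mul_assoc, ← mul_assoc a]
          exact mul_mem hg ((mem_normalizer_iff.1 ((h.zpowers_le hx).trans hH ha) _).1 (inv_mem hg)),
          fun n hn => ?_⟩
        have hg' : g ∈ normalizer (L : Set G) := hLn hg
        have ha' : a ∈ normalizer (L : Set G) := hLA (h.zpowers_le hx ha)
        have h1 : a⁻¹ * n * a * n⁻¹ ∈ L := by simpa using hfix n hn a⁻¹ (inv_mem ha)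
        have hn' : g⁻¹ * n * g ∈ N := (mem_normalizer_iff''.1 (hNn hg) n).1 hn
        have h2 := hfix _ hn' a ha
        have h3 : g⁻¹ * (a⁻¹ * n * a * n⁻¹) * g ∈ L := (mem_normalizer_iff''.1 hg' _).1 h1
        have h4 : a * (g⁻¹ * (a⁻¹ * n * a * n⁻¹) * g) * a⁻¹ *
            (a * (g⁻¹ * n * g) * a⁻¹ * (g⁻¹ * n * g)⁻¹) ∈ L :=
          mul_mem ((mem_normalizer_iff.1 ha' _).1 h3) h2
        have h5 := (mem_normalizer_iff.1 hg' _).1 h4
        convert h5 using 1
        rw [commutatorElement_def]; group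
      refine le_trans (CfsgLib.Coprime.commutator_sup_centralizer ((h.zpowers_le hx).trans hTA)
        ((h.coprime (hTH.trans hHK)).coprime_dvd_left (card_dvd_of_le (h.zpowers_le hx)))
        (Or.inl (CfsgLib.Coprime.isSolvable_of_le (h.zpowers_le hx) h.solvable_A))).ge
        (sup_le ((commutator_mono hTH le_rfl).trans hcH) ?_)
      rintro g ⟨hgT, hgc⟩
      rw [centralizer_zpowers_eq] at hgc
      refine ⟨hTH hgT, fun n hn => ?_⟩
      obtain ⟨c, hc, l, hl, rfl⟩ :=
        (CfsgLib.Coprime.mem_sup_iff_of_le_normalizer (H := C) (N := L) (inf_le_left.trans hLn)).1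
          (show n ∈ C ⊔ L by rw [sup_comm]; exact hNC hn)
      have hgcc : g * c = c * g := congrArg (fun z : ↥(K ⊓ centralizer ({x} : Set G)) => (z : G))
        ((h.cent x hx hx1).is_comm.comm ⟨g, hHK (hTH hgT), hgc⟩ ⟨c, hHK hc.1, hc.2⟩)
      have e : g * (c * l) * g⁻¹ * (c * l)⁻¹ = c * (g * l * g⁻¹ * l⁻¹) * c⁻¹ := by
        calc g * (c * l) * g⁻¹ * (c * l)⁻¹ = (g * c) * l * g⁻¹ * l⁻¹ * c⁻¹ := by group
          _ = _ := by rw [hgcc]; group
      rw [e]
      exact (mem_normalizer_iff.1 (hLn hc.1) _).1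
        (mul_mem ((mem_normalizer_iff.1 (hLn (hTH hgT)) l).1 hl) (inv_mem hl))
    have hNLT : N ≤ normalizer ((L ⊔ T : Subgroup G) : Set G) := by
      refine le_normalizer_of_conj_mem fun n hn u hu => ?_
      have hle : L ⊔ T ≤ (L ⊔ T).comap (MulAut.conj n).toMonoidHom := by
        refine sup_le (fun l hl => mem_sup_left ((mem_normalizer_iff.1 (hLn (hNH hn)) l).1 hl))
          fun g hg => ?_
        have h1 : (g * n * g⁻¹ * n⁻¹)⁻¹ * g ∈ L ⊔ T :=
          mul_mem (mem_sup_left (inv_mem ((hS hg).2 n hn))) (mem_sup_right hg)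
        simpa [mul_assoc] using h1
      exact hle hu
    have hMn : N ⊔ T ≤ normalizer ((L ⊔ T : Subgroup G) : Set G) :=
      sup_le hNLT (le_sup_right.trans le_normalizer)
    refine hr_case T hTH hTt hTA (le_normalizer_of_conj_mem fun g hg u hu => ?_)
    have hle : L ⊔ T ≤ (L ⊔ T).comap (MulAut.conj g).toMonoidHom := by
      refine sup_le (fun l hl => mem_sup_left ((mem_normalizer_iff.1 (hLn hg) l).1 hl)) fun e he => ?_
      obtain ⟨k, hk⟩ := hTt ⟨e, he⟩
      refine mem_of_pElement (t := t) (k := k) (sup_le (hLN.trans le_sup_left) le_sup_right) hMn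
        (fun hd => hTi (hd.trans (relIndex_dvd_of_le_left _ le_sup_right)))
        ((mem_normalizer_iff.1 (hTn hg) e).1 (mem_sup_right he)) ?_
      rw [MulEquiv.coe_toMonoidHom, MulAut.conj_apply, conj_pow,
        show e ^ t ^ k = 1 from congrArg Subtype.val hk]
      group
    exact hle hu
  · refine h.gen (hTH.trans hHK) hTA fun y hy hy1 => ?_
    by_cases hyx : y ∈ zpowers x
    · rw [h.centralizer_eq_of_mem hy hy1 hx hx1 hyx]
      exact (inf_le_inf_right _ hTH).trans le_sup_right
    refine le_trans ?_ (le_sup_left : L ≤ L ⊔ C)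
    refine le_trans (le_inf (inf_le_left.trans hTH) ?_) hLeq
    exact h.commute_of_fpf hVK ((inf_le_left.trans hTH).trans hHK) hVA (h.norm_inf hTA hy)
      ((inf_le_left.trans hTH).trans hVn) (IsPGroup.coprime_card_of_ne _ _ htr _ _
        (hTt.to_le inf_le_left) hVr) hx hx1 hfx
      (h.fix_eq_bot (hTH.trans hHK) hy hx hx1 hyx)

/-- The derived group centralises every minimal invariant normal subgroup. -/
theorem commutator_le_centralizer {H : Subgroup G} (hHK : H ≤ K)
    (hH : A ≤ normalizer (H : Set G)) (hsol : Group.IsSolvable H) {r : ℕ} [Fact r.Prime]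
    {V : Subgroup G} [IsMulCommutative V] (hVH : V ≤ H) (hVA : A ≤ normalizer (V : Set G))
    (hVn : H ≤ normalizer (V : Set G)) (hVr : IsPGroup r V) (hVne : V ≠ ⊥)
    (hVmin : ∀ U : Subgroup G, U ≤ V → A ≤ normalizer (U : Set G) → H ≤ normalizer (U : Set G) →
      U ≠ ⊥ → U = V) :
    ⁅H, H⁆ ≤ centralizer (V : Set G) := by
  set L := H ⊓ centralizer (V : Set G) with hLdef
  have hLA : A ≤ normalizer (L : Set G) := CfsgLib.Coprime.le_normalizer_inf_inf hH
    (CfsgLib.Coprime.le_normalizer_centralizer hVA)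
  have hLn : H ≤ normalizer (L : Set G) := CfsgLib.Coprime.le_normalizer_inf_inf le_normalizer
    (CfsgLib.Coprime.le_normalizer_centralizer hVn)
  have hVK : V ≤ K := hVH.trans hHK
  have hLV : L ≤ centralizer (V : Set G) := inf_le_right
  have hfixed : ∀ S : Subgroup G, A ≤ normalizer (S : Set G) → H ≤ normalizer (S : Set G) →
      V ⊓ centralizer (S : Set G) ≠ ⊥ → S ≤ centralizer (V : Set G) := by
    intro S hSA hSn hne
    have := hVmin _ inf_le_left
      (CfsgLib.Coprime.le_normalizer_inf_inf hVA (CfsgLib.Coprime.le_normalizer_centralizer hSA))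
      (CfsgLib.Coprime.le_normalizer_inf_inf hVn (CfsgLib.Coprime.le_normalizer_centralizer hSn)) hne
    exact le_centralizer_iff.1 (this.ge.trans inf_le_right)
  have hr_case : ∀ E : Subgroup G, E ≤ H → IsPGroup r E → A ≤ normalizer (E : Set G) →
      H ≤ normalizer ((L ⊔ E : Subgroup G) : Set G) → E ≤ L := by
    intro E hEH hEr hEA hEn
    refine le_inf hEH (le_sup_right.trans (hfixed (L ⊔ E)
      (CfsgLib.Coprime.le_normalizer_sup_sup hLA hEA) hEn ?_))
    have h1 := inf_centralizer_ne_bot_of_pGroup hVr hEr (hEH.trans hVn) hVne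
    intro e
    apply h1
    rw [eq_bot_iff, ← e]
    refine le_inf inf_le_left ?_
    rw [le_centralizer_iff]
    exact sup_le (hLV.trans (centralizer_le inf_le_left))
      (le_centralizer_iff.1 inf_le_right)
  rcases eq_or_ne L H with hL | hL
  · exact (commutator_le_self H).trans (hL.ge.trans hLV)
  -- an abelian layer
  obtain ⟨t, E, ht, hEH, hEt, hEA, hEL, hNn, hNN, -⟩ :=
    h.exists_layer hHK hH hsol inf_le_left hLA hLn hL
  haveI := Fact.mk ht
  have htr : t ≠ r := fun e => hEL (hr_case E hEH (e ▸ hEt) hEA hNn)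
  have hcopEV : ∀ {U W : Subgroup G}, U ≤ E → W ≤ V → (Nat.card U).Coprime (Nat.card W) :=
    fun hU hW => IsPGroup.coprime_card_of_ne _ _ htr _ _ (hEt.to_le hU) (hVr.to_le hW)
  set N := L ⊔ E with hN
  have hNH : N ≤ H := sup_le inf_le_left hEH
  have hNA : A ≤ normalizer (N : Set G) := CfsgLib.Coprime.le_normalizer_sup_sup hLA hEA
  -- a point
  obtain ⟨x, hx, hx1, hxE⟩ : ∃ x ∈ A, x ≠ 1 ∧ ¬ E ⊓ centralizer ({x} : Set G) ≤ L := by
    by_contra hcon
    push Not at hcon
    exact hEL (h.gen (hEH.trans hHK) hEA hcon)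
  set Ex := E ⊓ centralizer ({x} : Set G) with hEx
  have hExA : A ≤ normalizer (Ex : Set G) := h.norm_inf hEA hx
  have hExV : Ex ≤ normalizer (V : Set G) := (inf_le_left.trans hEH).trans hVn
  set W := ⁅V, Ex⁆ with hWdef
  have hWV : W ≤ V := CfsgLib.Coprime.commutator_le_of_le_normalizer hExV
  have hWA : A ≤ normalizer (W : Set G) := le_normalizer_commutator hVA hExA
  have hWN : N ≤ normalizer (W : Set G) := by
    rw [hWdef, Subgroup.commutator_def]
    refine le_normalizer_closure fun g hg w hw => ?_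
    obtain ⟨v, hv, e, he, rfl⟩ := hw
    refine subset_closure ⟨g * v * g⁻¹, (mem_normalizer_iff.1 (hVn (hNH hg)) v).1 hv, e, he, ?_⟩
    have hl : e⁻¹ * (g * e * g⁻¹) ∈ L := by
      have h1 : g * e * g⁻¹ * e⁻¹ ∈ L := hNN (commutator_mem_commutator hg
        (mem_sup_right he.1))
      have h2 := (mem_normalizer_iff''.1 (hLn (hEH he.1)) _).1 h1
      simpa [mul_assoc] using h2
    obtain ⟨l, hl', hle⟩ : ∃ l ∈ L, g * e * g⁻¹ = e * l := ⟨_, hl, by group⟩
    set v' := g * v * g⁻¹ with hv'
    have hlv : l * v'⁻¹ = v'⁻¹ * l :=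
      (mem_centralizer_iff.1 (hLV hl') v'⁻¹ (inv_mem ((mem_normalizer_iff.1 (hVn (hNH hg)) v).1 hv))).symm
    have hex : g * ⁅v, e⁆ * g⁻¹ = ⁅v', e * l⁆ := by
      rw [← hle, hv']; simp only [commutatorElement_def]; group
    rw [hex]
    simp only [commutatorElement_def]
    calc v' * e * v'⁻¹ * e⁻¹ = v' * e * (v'⁻¹ * l) * l⁻¹ * e⁻¹ := by group
      _ = v' * (e * l) * v'⁻¹ * (e * l)⁻¹ := by rw [← hlv]; group
  haveI hWc : IsMulCommutative W := ⟨⟨fun a b => Subtype.ext
    (congrArg (fun z : V => (z : G)) (mul_comm' (⟨a, hWV a.2⟩ : V) ⟨b, hWV b.2⟩))⟩⟩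
  have hWEx : W ⊓ centralizer (Ex : Set G) = ⊥ := by
    rw [eq_bot_iff]
    refine le_trans (le_inf (le_inf (inf_le_left.trans hWV) inf_le_right) inf_le_left) ?_
    exact (CfsgLib.Coprime.centralizer_inf_commutator_eq_bot hExV
      (hcopEV inf_le_left le_rfl)).le
  have hVxEx : V ⊓ centralizer ({x} : Set G) ≤ centralizer (Ex : Set G) :=
    le_trans (inf_le_inf_right _ hVK)
      (h.fixed_le_centralizer hx hx1 (inf_le_inf_right _ (hEH.trans hHK)))
  have hWx : W ⊓ centralizer ({x} : Set G) = ⊥ := by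
    rw [eq_bot_iff, ← hWEx]
    exact le_inf inf_le_left ((inf_le_inf_right _ hWV).trans hVxEx)
  have hWne : W ≠ ⊥ := fun e => hxE (le_inf (inf_le_left.trans hEH) (le_centralizer_iff.1
    (commutator_eq_bot_iff_le_centralizer.1 e)))
  set κ := N ⊓ centralizer (W : Set G) with hκ
  have hκA : A ≤ normalizer (κ : Set G) := CfsgLib.Coprime.le_normalizer_inf_inf hNA
    (CfsgLib.Coprime.le_normalizer_centralizer hWA)
  have hκN : N ≤ normalizer (κ : Set G) := CfsgLib.Coprime.le_normalizer_inf_inf le_normalizer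
    (CfsgLib.Coprime.le_normalizer_centralizer hWN)
  have hLκ : L ≤ κ := le_inf le_sup_left (hLV.trans (centralizer_le hWV))
  have hdec : N ≤ Ex ⊔ κ := by
    refine sup_le (hLκ.trans le_sup_right) (h.gen (hEH.trans hHK) hEA fun y hy hy1 => ?_)
    by_cases hyx : y ∈ zpowers x
    · rw [h.centralizer_eq_of_mem hy hy1 hx hx1 hyx]
      exact le_sup_left
    refine le_trans (le_inf (inf_le_left.trans le_sup_right) ?_) le_sup_right
    exact h.commute_of_fpf (hWV.trans hVK) ((inf_le_left.trans hEH).trans hHK) hWA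
      (h.norm_inf hEA hy) ((inf_le_left.trans le_sup_right).trans hWN) (hcopEV inf_le_left hWV)
      hx hx1 hWx (h.fix_eq_bot (hEH.trans hHK) hy hx hx1 hyx)
  have hExN : Ex ≤ normalizer (κ : Set G) := (inf_le_left.trans le_sup_right).trans hκN
  have hHκ : H ≤ normalizer (κ : Set G) := by
    refine h.gen hHK hH fun z hz hz1 => ?_
    by_cases hzx : z ∈ zpowers x
    · rw [h.centralizer_eq_of_mem hz hz1 hx hx1 hzx]
      have hZN : zpowers x ≤ normalizer (N : Set G) := (h.zpowers_le hx).trans hNA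
      have heq : κ = L ⊔ ⁅N, zpowers x⁆ := by
        refine le_antisymm (fun n hn => ?_) (sup_le hLκ ?_)
        · obtain ⟨c, hc, hnc⟩ := CfsgLib.Coprime.exists_commutator_mul_centralizer hZN
            ((h.coprime (hNH.trans hHK)).coprime_dvd_left (card_dvd_of_le (h.zpowers_le hx)))
            (Or.inl (CfsgLib.Coprime.isSolvable_of_le (h.zpowers_le hx) h.solvable_A)) hn.1
          have hcomm_le : ⁅N, zpowers x⁆ ≤ κ := by
            rw [commutator_le]
            intro m hm a ha
            obtain ⟨e, he, k, hk, rfl⟩ :=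
              (CfsgLib.Coprime.mem_sup_iff_of_le_normalizer hExN).1 (hdec hm)
            have hea : e * a = a * e := by
              have h1 : x ∈ centralizer ({e} : Set G) :=
                mem_centralizer_singleton_iff.2 (mem_centralizer_singleton_iff.1 he.2).symm
              exact (mem_centralizer_singleton_iff.1 ((Subgroup.zpowers_le.2 h1) ha)).symm
            have heq : ⁅e * k, a⁆ = e * (k * (a * k⁻¹ * a⁻¹)) * e⁻¹ := by
              have h2 : e * a⁻¹ = a⁻¹ * e := ((show Commute e a from hea).inv_right).eq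
              rw [commutatorElement_def, mul_inv_rev]
              calc e * k * a * (k⁻¹ * e⁻¹) * a⁻¹ = e * (k * a * k⁻¹ * (e⁻¹ * a⁻¹)) := by group
                _ = e * (k * a * k⁻¹ * (a⁻¹ * e⁻¹)) := by
                  rw [((show Commute e a from hea).inv_inv).eq]
                _ = e * (k * (a * k⁻¹ * a⁻¹)) * e⁻¹ := by group
            rw [heq]
            exact (mem_normalizer_iff.1 (hExN he) _).1
              (mul_mem hk ((mem_normalizer_iff.1 (hκA (h.zpowers_le hx ha)) _).1 (inv_mem hk)))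
          suffices hcL : c ∈ L by
            simpa using mul_mem (mem_sup_right (S := L) hnc) (mem_sup_left hcL)
          have hcκ : c ∈ κ := by
            simpa using mul_mem (inv_mem (hcomm_le hnc)) hn
          obtain ⟨e, he, l, hl, hel⟩ :=
            (CfsgLib.Coprime.mem_sup_iff_of_le_normalizer (H := E) (N := L) (hEH.trans hLn)).1
              (show c ∈ E ⊔ L by rw [sup_comm]; exact hc.1)
          obtain ⟨e', he'c, he'⟩ := CfsgLib.Coprime.exists_centralizing_in_coset (A := zpowers x)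
            (N := L ⊓ E) ((h.zpowers_le hx).trans (CfsgLib.Coprime.le_normalizer_inf_inf hLA hEA))
            ((h.coprime ((inf_le_right.trans hEH).trans hHK)).coprime_dvd_left
              (card_dvd_of_le (h.zpowers_le hx)))
            (Or.inl (CfsgLib.Coprime.isSolvable_of_le (h.zpowers_le hx) h.solvable_A)) (k := e)
            (fun a ha => by
              have hca : a * c = c * a := mem_centralizer_iff.1 hc.2 a ha
              have hae : e⁻¹ * (a * e * a⁻¹) = l * (a * l * a⁻¹)⁻¹ := by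
                rw [inv_mul_eq_iff_eq_mul, ← mul_assoc e, hel, eq_mul_inv_iff_mul_eq]
                calc a * e * a⁻¹ * (a * l * a⁻¹) = a * (e * l) * a⁻¹ := by group
                  _ = c := by rw [hel, hca]; group
              refine mem_inf.2 ⟨?_, E.mul_mem (E.inv_mem he)
                ((mem_normalizer_iff.1 (hEA (h.zpowers_le hx ha)) e).1 he)⟩
              rw [hae]
              exact L.mul_mem hl (L.inv_mem ((mem_normalizer_iff.1
                (hLA (h.zpowers_le hx ha)) l).1 hl)))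
          have hl2 : e'⁻¹ * c ∈ L := by
            have := mul_mem (inv_mem (mem_inf.1 he').1) hl
            rw [← hel]
            simpa [mul_assoc] using this
          have he'E : e' ∈ E := by simpa using mul_mem he (mem_inf.1 he').2
          have he'x : e' ∈ Ex := ⟨he'E, by rw [← centralizer_zpowers_eq]; exact he'c⟩
          have he'κ : e' ∈ κ := by
            simpa using mul_mem hcκ (inv_mem (hLκ hl2))
          have he'L : e' ∈ L := by
            refine ⟨hEH he'E, ?_⟩
            have hVle : V ≤ centralizer ({e'} : Set G) := by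
              refine le_trans (CfsgLib.Coprime.commutator_sup_centralizer hExV
                (hcopEV inf_le_left le_rfl) (Or.inr (Group.isSolvable_of_comm mul_comm'))).ge
                (sup_le ?_ ?_)
              · exact le_centralizer_iff.1 (Subgroup.zpowers_le.2 he'κ.2) |>.trans
                  (centralizer_le (Set.singleton_subset_iff.2 (mem_zpowers e')))
              · exact inf_le_right.trans (centralizer_le (Set.singleton_subset_iff.2 he'x))
            exact mem_centralizer_iff.2 fun v hv => mem_centralizer_singleton_iff.1 (hVle hv)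
          simpa using mul_mem he'L hl2
        · rw [commutator_le]
          intro m hm a ha
          obtain ⟨e, he, k, hk, rfl⟩ :=
            (CfsgLib.Coprime.mem_sup_iff_of_le_normalizer hExN).1 (hdec hm)
          have hea : Commute e a := by
            have h1 : x ∈ centralizer ({e} : Set G) :=
              mem_centralizer_singleton_iff.2 (mem_centralizer_singleton_iff.1 he.2).symm
            exact (mem_centralizer_singleton_iff.1 ((Subgroup.zpowers_le.2 h1) ha)).symm
          have heq : ⁅e * k, a⁆ = e * (k * (a * k⁻¹ * a⁻¹)) * e⁻¹ := by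
            rw [commutatorElement_def, mul_inv_rev]
            calc e * k * a * (k⁻¹ * e⁻¹) * a⁻¹ = e * (k * a * k⁻¹ * (e⁻¹ * a⁻¹)) := by group
              _ = e * (k * a * k⁻¹ * (a⁻¹ * e⁻¹)) := by rw [hea.inv_inv.eq]
              _ = e * (k * (a * k⁻¹ * a⁻¹)) * e⁻¹ := by group
          rw [heq]
          exact (mem_normalizer_iff.1 (hExN he) _).1
            (mul_mem hk ((mem_normalizer_iff.1 (hκA (h.zpowers_le hx ha)) _).1 (inv_mem hk)))
      rw [heq]
      refine CfsgLib.Coprime.le_normalizer_sup_sup (inf_le_left.trans hLn)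
        (le_normalizer_commutator (inf_le_left.trans hNn) ?_)
      refine le_normalizer_of_centralizes ?_
      rw [centralizer_zpowers_eq]; exact inf_le_right
    · set Wz := W ⊓ centralizer ({z} : Set G) with hWz
      have heq : κ = N ⊓ centralizer (Wz : Set G) := by
        refine le_antisymm (inf_le_inf_left _ (centralizer_le inf_le_left)) fun n hn => ?_
        obtain ⟨e, he, k, hk, rfl⟩ :=
          (CfsgLib.Coprime.mem_sup_iff_of_le_normalizer hExN).1 (hdec hn.1)
        have he2 : e ∈ centralizer (Wz : Set G) := by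
          have := mul_mem (mem_inf.1 hn).2 (inv_mem (centralizer_le (s := (Wz : Set G))
            (fun w hw => (mem_inf.1 hw).1) hk.2))
          simpa using this
        set J := Ex ⊓ centralizer (Wz : Set G) with hJ
        have hJA : A ≤ normalizer (J : Set G) := CfsgLib.Coprime.le_normalizer_inf_inf hExA
          (CfsgLib.Coprime.le_normalizer_centralizer (h.norm_inf hWA hz))
        have hJE : J ≤ E := inf_le_left.trans inf_le_left
        have hJW : J ≤ normalizer (W : Set G) := (hJE.trans le_sup_right).trans hWN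
        set W1 := ⁅W, J⁆ with hW1
        have hW1W : W1 ≤ W := CfsgLib.Coprime.commutator_le_of_le_normalizer hJW
        have hW1J : W1 ⊓ centralizer (J : Set G) = ⊥ := by
          rw [eq_bot_iff]
          refine le_trans (le_inf (le_inf (inf_le_left.trans hW1W) inf_le_right) inf_le_left) ?_
          exact (CfsgLib.Coprime.centralizer_inf_commutator_eq_bot hJW (hcopEV hJE hWV)).le
        have hW1z : W1 ⊓ centralizer ({z} : Set G) = ⊥ := by
          rw [eq_bot_iff, ← hW1J]
          exact le_inf inf_le_left ((inf_le_inf_right _ hW1W).trans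
            (le_centralizer_iff.1 inf_le_right))
        have hJz : J ⊓ centralizer ({z} : Set G) = ⊥ := by
          rw [eq_bot_iff, ← h.fix_eq_bot (hEH.trans hHK) hz hx hx1 hzx]
          exact le_inf (le_inf (inf_le_left.trans hJE) inf_le_right)
            ((inf_le_left.trans inf_le_left).trans inf_le_right)
        have hJW1 : J ≤ centralizer (W1 : Set G) :=
          h.commute_of_fpf ((hW1W.trans hWV).trans hVK) ((hJE.trans hEH).trans hHK)
            (le_normalizer_commutator hWA hJA) hJA (normalizer_commutator_ge_right W J)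
            (hcopEV hJE (hW1W.trans hWV)) hz hz1 hW1z hJz
        have hW1bot : W1 = ⊥ := by
          rw [← hW1J, inf_eq_left.2 (le_centralizer_iff.1 hJW1)]
        have heW : e ∈ centralizer (W : Set G) :=
          le_centralizer_iff.1 (commutator_eq_bot_iff_le_centralizer.1 hW1bot) (mem_inf.2 ⟨he, he2⟩)
        exact mul_mem (mem_inf.2 ⟨(show Ex ≤ N from inf_le_left.trans le_sup_right) he, heW⟩) hk
      rw [heq]
      refine CfsgLib.Coprime.le_normalizer_inf_inf (inf_le_left.trans hNn)
        (CfsgLib.Coprime.le_normalizer_centralizer (le_normalizer_of_centralizes ?_))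
      exact le_trans (inf_le_inf_right _ hHK)
        (h.fixed_le_centralizer hz hz1 (inf_le_inf_right _ (hWV.trans hVK)))
  have hκL : κ ≤ L := le_inf (inf_le_left.trans hNH) (hfixed κ hκA hHκ fun e => hWne (by
    rw [eq_bot_iff, ← e]
    exact le_inf hWV (le_centralizer_iff.1 inf_le_right)))
  have hNx : N ≤ Ex ⊔ L := hdec.trans (sup_le_sup_left hκL _)
  have hV0 : V ⊓ centralizer (Ex : Set G) = ⊥ := by
    by_contra hne
    refine hEL (le_inf hEH (le_sup_right.trans (hfixed N hNA hNn ?_)))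
    intro e
    apply hne
    rw [eq_bot_iff, ← e]
    refine le_inf inf_le_left ?_
    rw [le_centralizer_iff]
    exact hNx.trans (sup_le (le_centralizer_iff.1 inf_le_right)
      (hLV.trans (centralizer_le inf_le_left)))
  have hfx : V ⊓ centralizer ({x} : Set G) = ⊥ := by
    rw [eq_bot_iff, ← hV0]
    exact le_inf inf_le_left hVxEx
  have hfin := h.eq_top_of_layers hHK hH hsol hVK hVA hVn hVr inf_le_left hLA hLn le_rfl hr_case
    hx hx1 hfx
  refine le_trans ?_ hLV
  rw [commutator_le]
  intro g hg g' hg'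
  set C := H ⊓ centralizer ({x} : Set G)
  have hCn : C ≤ normalizer (L : Set G) := inf_le_left.trans hLn
  obtain ⟨c, hc, l, hl, rfl⟩ := (CfsgLib.Coprime.mem_sup_iff_of_le_normalizer hCn).1
    (show g ∈ C ⊔ L by rw [sup_comm]; exact hfin hg)
  obtain ⟨c', hc', l', hl', rfl⟩ := (CfsgLib.Coprime.mem_sup_iff_of_le_normalizer hCn).1
    (show g' ∈ C ⊔ L by rw [sup_comm]; exact hfin hg')
  have hcc : c * c' = c' * c := congrArg (fun z : ↥(K ⊓ centralizer ({x} : Set G)) => (z : G))
    ((h.cent x hx hx1).is_comm.comm ⟨c, hHK hc.1, hc.2⟩ ⟨c', hHK hc'.1, hc'.2⟩)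
  have e : ⁅c * l, c' * l'⁆ =
      (c * l * c⁻¹) * (c' * (c * l' * l⁻¹ * c⁻¹) * c'⁻¹) * (c' * l' * c'⁻¹)⁻¹ := by
    simp only [commutatorElement_def, mul_inv_rev, inv_inv]
    calc c * l * (c' * l') * (l⁻¹ * c⁻¹) * (l'⁻¹ * c'⁻¹)
        = c * l * (c⁻¹ * (c * c')) * l' * l⁻¹ * c⁻¹ * l'⁻¹ * c'⁻¹ := by group
      _ = c * l * (c⁻¹ * (c' * c)) * l' * l⁻¹ * c⁻¹ * l'⁻¹ * c'⁻¹ := by rw [hcc]
      _ = _ := by group
  rw [e]
  have hcN := hLn hc.1
  have hc'N := hLn hc'.1
  exact mul_mem (mul_mem ((mem_normalizer_iff.1 hcN l).1 hl)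
    ((mem_normalizer_iff.1 hc'N _).1 (by
      have := (mem_normalizer_iff.1 hcN _).1 (mul_mem hl' (inv_mem hl))
      simpa [mul_assoc] using this))) (inv_mem ((mem_normalizer_iff.1 hc'N l').1 hl'))

end Act

/-- Invariant solvable subgroups have nilpotent derived groups. -/
theorem isNilpotent_commutator : ∀ (n : ℕ) {G : Type u} [Group G] [Finite G] {q : ℕ}
    {H A : Subgroup G}, Nat.card H = n → Act q H A → Group.IsSolvable H →
    Group.IsNilpotent ↥(⁅H, H⁆ : Subgroup G) := by
  intro n
  induction n using Nat.strong_induction_on with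
  | _ n ih =>
  intro G _ _ q H A hn h hsol
  subst hn
  rcases eq_or_ne H ⊥ with rfl | hne
  · rw [commutator_bot_left]; infer_instance
  obtain ⟨V, ⟨hVH, hVA, hVn, hVne⟩, hmin⟩ := Set.Finite.exists_minimal
    (Set.toFinite {V : Subgroup G | V ≤ H ∧ A ≤ normalizer (V : Set G) ∧
      H ≤ normalizer (V : Set G) ∧ V ≠ ⊥}) ⟨H, le_rfl, h.norm, le_normalizer, hne⟩
  have hVmin : ∀ U : Subgroup G, U ≤ V → A ≤ normalizer (U : Set G) →
      H ≤ normalizer (U : Set G) → U ≠ ⊥ → U = V := fun U hU h1 h2 h3 =>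
    le_antisymm hU (hmin ⟨hU.trans hVH, h1, h2, h3⟩ hU)
  haveI hVc : IsMulCommutative V := by
    have hVs := CfsgLib.Coprime.isSolvable_of_le hVH hsol
    by_contra hc
    haveI := hVs
    haveI : Nontrivial V := (nontrivial_iff_ne_bot V).2 hVne
    refine (Group.IsSolvable.commutator_lt_top_of_nontrivial V).ne ?_
    have hne' : ⁅V, V⁆ ≠ ⊥ := fun e => hc ⟨⟨fun a b => Subtype.ext
      ((mem_centralizer_iff.1 ((commutator_eq_bot_iff_le_centralizer.1 e) b.2) a a.2))⟩⟩
    apply map_injective V.subtype_injective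
    rw [_root_.commutator_def, map_commutator, ← MonoidHom.range_eq_map, range_subtype]
    exact hVmin _ (commutator_le_self V) (le_normalizer_commutator hVA hVA)
      (le_normalizer_commutator hVn hVn) hne'
  obtain ⟨r, hr, hrd⟩ := Nat.exists_prime_and_dvd
    (fun e : Nat.card V = 1 => hVne (V.eq_bot_of_card_eq e))
  haveI := Fact.mk hr
  have hVr : IsPGroup r V := by
    obtain ⟨S, hSV, hSr, hSA, hSi, hSmax⟩ := h.exists_sylow hVH hVA r
    have hSn : H ≤ normalizer (S : Set G) := by
      haveI : (S.subgroupOf V).Normal :=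
        normal_of_isMulCommutative _
      refine le_normalizer_of_conj_mem fun g hg s hs => ?_
      obtain ⟨k, hk⟩ := hSr ⟨s, hs⟩
      refine mem_of_pElement (t := r) (k := k) hSV ?_ hSi
        ((mem_normalizer_iff.1 (hVn hg) s).1 (hSV hs)) ?_
      · intro v hv
        refine centralizer_le_normalizer _ (mem_centralizer_iff.2 fun s hs => ?_)
        exact congrArg (fun z : V => (z : G)) (mul_comm' (⟨s, hSV hs⟩ : V) ⟨v, hv⟩)
      · rw [conj_pow, show s ^ r ^ k = 1 from congrArg Subtype.val hk]; group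
    have hS1 : S ≠ ⊥ := fun e => hSi (by rw [e, relIndex_bot_left]; exact hrd)
    rw [← hVmin S hSV hSA hSn hS1]
    exact hSr
  have hcV := h.commutator_le_centralizer le_rfl h.norm hsol hVH hVA hVn hVr hVne hVmin
  -- the quotient
  set Γ := normalizer (V : Set G) with hΓ
  haveI : (V.subgroupOf Γ).Normal := normal_subgroupOf_of_le_normalizer le_rfl
  set f : Γ →* Γ ⧸ V.subgroupOf Γ := QuotientGroup.mk' _ with hf
  have hVΓ : V ≤ Γ := le_normalizer
  have hker : f.ker ≤ H.subgroupOf Γ := by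
    rw [hf, QuotientGroup.ker_mk']; exact fun v hv => hVH hv
  have hres : Act q (H.subgroupOf Γ) (A.subgroupOf Γ) := h.subgroupOf hVn hVA
  have hlt : Nat.card ↥((H.subgroupOf Γ).map f) < Nat.card H := by
    have h1 := CfsgLib.Coprime.card_map_mk' (V.subgroupOf Γ) (H.subgroupOf Γ)
    rw [← Nat.card_congr (subgroupOfEquivOfLe hVn).toEquiv]
    refine lt_of_le_of_ne (Nat.le_of_dvd Nat.card_pos (card_map_dvd _ f)) fun e => hVne ?_
    have hinj : Function.Injective (f.subgroupMap (H.subgroupOf Γ)) :=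
      ((Nat.bijective_iff_surjective_and_card _).2
        ⟨f.subgroupMap_surjective _, e.symm⟩).1
    refine le_bot_iff.1 fun v hv => ?_
    have h2 : (⟨⟨v, hVΓ hv⟩, hVH hv⟩ : H.subgroupOf Γ) = 1 := hinj (Subtype.ext (by
      show f ⟨v, hVΓ hv⟩ = f 1
      rw [map_one]; exact (QuotientGroup.eq_one_iff _).2 hv))
    exact Subgroup.mem_bot.2 (congrArg (fun z : H.subgroupOf Γ => ((z : Γ) : G)) h2)
  have hq := ih _ hlt rfl (hres.map f hker) (by
    haveI : Group.IsSolvable ↥(H.subgroupOf Γ) := CfsgLib.Coprime.isSolvable_subgroupOf _ hsol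
    exact Group.isSolvable_of_surjective (f.subgroupMap_surjective _))
  rw [← map_commutator] at hq
  set D := ⁅H.subgroupOf Γ, H.subgroupOf Γ⁆ with hD
  have hDmap : D.map Γ.subtype = ⁅H, H⁆ := by
    rw [hD, map_commutator, map_subgroupOf_eq_of_le hVn]
  haveI : Group.IsNilpotent ↥(D.map f) := hq
  have hnil : Group.IsNilpotent D := by
    refine Subgroup.isNilpotent_of_ker_le_center (f.subgroupMap D) (fun y hy => ?_)
    rw [mem_center_iff]
    intro z
    have hyV : (y : Γ) ∈ V.subgroupOf Γ :=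
      (QuotientGroup.eq_one_iff (y : Γ)).1 (congrArg Subtype.val hy)
    have hz : ((z : Γ) : G) ∈ ⁅H, H⁆ := hDmap ▸ mem_map_of_mem Γ.subtype z.2
    exact Subtype.ext (Subtype.ext (mem_centralizer_iff.1 (hcV hz) _ hyV).symm)
  rw [← hDmap]
  exact Group.nilpotent_of_mulEquiv (equivMapOfInjective _ _ Γ.subtype_injective)

end CfsgLib.FgsB.AbCent
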