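import Cfsg.Agent.Lib.FgsB.AbCent.Basic
import Cfsg.Agent.Lib.Components.Signalizer

/-!
# Chief layers and quotients for groups of operators with abelian fixed point groups
-/

set_option autoImplicit false
set_option linter.style.haveILetI false
set_option linter.unusedSectionVars false

open scoped Pointwise commutatorElement

namespace CfsgLib.FgsB.AbCent

open Subgroup

variable {G : Type*} [Group G] [Finite G]

theorem le_normalizer_of_conj_mem {S U : Subgroup G}
    (h : ∀ g ∈ S, ∀ u ∈ U, g * u * g⁻¹ ∈ U) : S ≤ normalizer (U : Set G) := by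
  intro g hg
  rw [mem_normalizer_iff]
  refine fun u => ⟨h g hg u, fun hu => ?_⟩
  have := h g⁻¹ (inv_mem hg) _ hu
  simpa [mul_assoc] using this

theorem le_normalizer_closure {S : Subgroup G} {s : Set G}
    (h : ∀ g ∈ S, ∀ u ∈ s, g * u * g⁻¹ ∈ closure s) : S ≤ normalizer (closure s : Set G) := by
  refine le_normalizer_of_conj_mem fun g hg u hu => ?_
  have hle : closure s ≤ (closure s).comap (MulAut.conj g).toMonoidHom :=
    (closure_le _).2 fun v hv => h g hg v hv
  exact hle hu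

theorem le_normalizer_commutator {S X Y : Subgroup G} (hX : S ≤ normalizer (X : Set G))
    (hY : S ≤ normalizer (Y : Set G)) : S ≤ normalizer ((⁅X, Y⁆ : Subgroup G) : Set G) := by
  rw [Subgroup.commutator_def]
  refine le_normalizer_closure fun g hg u hu => ?_
  obtain ⟨x, hx, y, hy, rfl⟩ := hu
  refine subset_closure ⟨g * x * g⁻¹, (mem_normalizer_iff.1 (hX hg) x).1 hx,
    g * y * g⁻¹, (mem_normalizer_iff.1 (hY hg) y).1 hy, ?_⟩
  simp only [commutatorElement_def]; group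

theorem mem_of_pElement {t : ℕ} [ht : Fact t.Prime] {M J : Subgroup G} (hJM : J ≤ M)
    (hn : M ≤ normalizer (J : Set G)) (hi : ¬ t ∣ J.relIndex M) {g : G} (hg : g ∈ M)
    {k : ℕ} (hk : g ^ t ^ k = 1) : g ∈ J := by
  haveI : (J.subgroupOf M).Normal := normal_subgroupOf_of_le_normalizer hn
  set x := QuotientGroup.mk' (J.subgroupOf M) ⟨g, hg⟩ with hx
  have h1 : orderOf x ∣ t ^ k := orderOf_dvd_of_pow_eq_one (by
    rw [hx, ← map_pow, show (⟨g, hg⟩ : M) ^ t ^ k = 1 from Subtype.ext (by simpa using hk), map_one])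
  have h2 : orderOf x ∣ J.relIndex M := by
    rw [relIndex, index_eq_card]; exact orderOf_dvd_natCard x
  have h3 : orderOf x = 1 := Nat.eq_one_of_dvd_coprimes
    (Nat.Coprime.pow_left k (ht.out.coprime_iff_not_dvd.2 hi)) h1 h2
  rw [orderOf_eq_one_iff, hx, QuotientGroup.mk'_apply, QuotientGroup.eq_one_iff] at h3
  exact h3

theorem isPGroup_sup {t : ℕ} [Fact t.Prime] {X Y : Subgroup G} (hX : IsPGroup t X)
    (hY : IsPGroup t Y) (hn : Y ≤ normalizer (X : Set G)) : IsPGroup t ↥(X ⊔ Y) := by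
  obtain ⟨a, ha⟩ := IsPGroup.iff_card.1 hX
  obtain ⟨b, hb⟩ := IsPGroup.iff_card.1 hY
  have hd := CfsgLib.Coprime.card_sup_dvd hn
  rw [ha, hb, ← pow_add, sup_comm] at hd
  obtain ⟨c, -, hc⟩ := (Nat.dvd_prime_pow Fact.out).1 hd
  exact IsPGroup.of_card hc

namespace Act

variable {q : ℕ} {K A : Subgroup G} (h : Act q K A)
include h

/-- An abelian `t`-layer above a normal invariant subgroup `L ≠ H`. -/
theorem exists_layer {H L : Subgroup G} (hHK : H ≤ K) (hH : A ≤ normalizer (H : Set G))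
    (hsol : Group.IsSolvable H) (hLH : L ≤ H) (hLA : A ≤ normalizer (L : Set G))
    (hLn : H ≤ normalizer (L : Set G)) (hne : L ≠ H) :
    ∃ (t : ℕ) (E : Subgroup G), t.Prime ∧ E ≤ H ∧ IsPGroup t E ∧ A ≤ normalizer (E : Set G) ∧
      ¬ E ≤ L ∧ H ≤ normalizer ((L ⊔ E : Subgroup G) : Set G) ∧
      ⁅(L ⊔ E : Subgroup G), L ⊔ E⁆ ≤ L ∧ ¬ t ∣ E.relIndex (L ⊔ E) := by
  obtain ⟨N, ⟨hNH, hLN, hNA, hNn⟩, hmin⟩ := Set.Finite.exists_minimal
    (Set.toFinite {N : Subgroup G | N ≤ H ∧ L < N ∧ A ≤ normalizer (N : Set G) ∧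
      H ≤ normalizer (N : Set G)})
    ⟨H, le_rfl, lt_of_le_of_ne hLH hne, hH, le_normalizer⟩
  have hNL : N ≤ normalizer (L : Set G) := hNH.trans hLn
  have hNN : ⁅N, N⁆ ≤ L := by
    by_contra hcon
    set N' := ⁅N, N⁆ ⊔ L
    have hle : N' ≤ N := sup_le (commutator_le_self N) hLN.le
    have heq : N ≤ N' := hmin ⟨hle.trans hNH, lt_of_le_of_ne le_sup_right
      (fun e => hcon (le_sup_left.trans_eq e.symm)),
      CfsgLib.Coprime.le_normalizer_sup_sup (le_normalizer_commutator hNA hNA) hLA,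
      CfsgLib.Coprime.le_normalizer_sup_sup (le_normalizer_commutator hNn hNn) hLn⟩ hle
    haveI : (L.subgroupOf N).Normal := normal_subgroupOf_of_le_normalizer hNL
    set f := QuotientGroup.mk' (L.subgroupOf N)
    haveI : Group.IsSolvable N := CfsgLib.Coprime.isSolvable_of_le hNH hsol
    haveI : Group.IsSolvable (↥N ⧸ L.subgroupOf N) :=
      Group.isSolvable_of_surjective (QuotientGroup.mk'_surjective _)
    rcases subsingleton_or_nontrivial (↥N ⧸ L.subgroupOf N) with hs | hs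
    · refine hLN.not_ge fun g hg => ?_
      exact (QuotientGroup.eq_one_iff (⟨g, hg⟩ : N)).1 (Subsingleton.elim (α := ↥N ⧸ L.subgroupOf N) _ _)
    · refine (Group.IsSolvable.commutator_lt_top_of_nontrivial (↥N ⧸ L.subgroupOf N)).ne ?_
      have h1 : (commutator N).map f = commutator (↥N ⧸ L.subgroupOf N) := by
        rw [_root_.commutator_def, map_commutator, map_top_of_surjective _ (QuotientGroup.mk'_surjective _),
          ← _root_.commutator_def]
      rw [← h1, eq_top_iff]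
      rintro y -
      obtain ⟨⟨g, hg⟩, rfl⟩ := QuotientGroup.mk'_surjective _ y
      have hn : ⁅N, N⁆ ≤ normalizer (L : Set G) := (commutator_le_self N).trans hNL
      obtain ⟨a, ha, l, hl, rfl⟩ := (CfsgLib.Coprime.mem_sup_iff_of_le_normalizer hn).1 (heq hg)
      have hamap : a ∈ (commutator N).map N.subtype := by
        rw [_root_.commutator_def, map_commutator, ← MonoidHom.range_eq_map, range_subtype]; exact ha
      obtain ⟨⟨a', ha'N⟩, ha', rfl⟩ := hamap
      refine ⟨⟨a', ha'N⟩, ha', ?_⟩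
      rw [QuotientGroup.mk'_apply, QuotientGroup.mk'_apply, QuotientGroup.eq, mem_subgroupOf]
      simpa using hl
  obtain ⟨t, ht, htd⟩ := Nat.exists_prime_and_dvd
    (fun e : L.relIndex N = 1 => hLN.not_ge (relIndex_eq_one.1 e))
  haveI := Fact.mk ht
  obtain ⟨E, hEN, hEt, hEA, hEi, -⟩ := h.exists_sylow (hNH.trans hHK) hNA t
  have hEL : ¬ E ≤ L := fun e => hEi (htd.trans (relIndex_dvd_of_le_left _ e))
  have hsup : L ⊔ E ≤ N := sup_le hLN.le hEN
  have hcomm : ⁅(L ⊔ E : Subgroup G), L ⊔ E⁆ ≤ L := (commutator_mono hsup hsup).trans hNN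
  have hnorm : N ≤ normalizer ((L ⊔ E : Subgroup G) : Set G) := by
    refine le_normalizer_of_conj_mem fun g hg u hu => ?_
    have h1 : g * u * g⁻¹ * u⁻¹ ∈ L := hNN (commutator_mem_commutator hg (hsup hu))
    simpa using mul_mem (mem_sup_left (T := E) h1) hu
  have hgen : H ≤ normalizer ((L ⊔ E : Subgroup G) : Set G) := by
    refine le_normalizer_of_conj_mem fun g hg u hu => ?_
    have hle : L ⊔ E ≤ (L ⊔ E).comap (MulAut.conj g).toMonoidHom := by
      refine sup_le (fun l hl => mem_sup_left ((mem_normalizer_iff.1 (hLn hg) l).1 hl)) fun e he => ?_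
      obtain ⟨k, hk⟩ := hEt ⟨e, he⟩
      refine mem_of_pElement (t := t) (k := k) hsup hnorm
        (fun hd => hEi (hd.trans (relIndex_dvd_of_le_left _ le_sup_right)))
        ((mem_normalizer_iff.1 (hNn hg) e).1 (hEN he)) ?_
      rw [MulEquiv.coe_toMonoidHom, MulAut.conj_apply, conj_pow,
        show e ^ t ^ k = 1 from congrArg Subtype.val hk]
      group
    exact hle hu
  refine ⟨t, E, ht, hEN.trans hNH, hEt, hEA, hEL, hgen, hcomm, fun hd => hEi (hd.trans ?_)⟩
  exact Dvd.intro _ (relIndex_mul_relIndex _ _ _ le_sup_right hsup)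

end Act

namespace Pre

variable {q : ℕ} {K A : Subgroup G} (h : Pre q K A)
include h

/-- Fixed points in a quotient lift. -/
theorem lift {G' : Type*} [Group G'] (f : G →* G') (hker : f.ker ≤ K) :
    ∀ S : Subgroup G, S ≤ A → ∀ x ∈ K, (∀ a ∈ S, f a * f x = f x * f a) →
      ∃ c ∈ K ⊓ centralizer (S : Set G), f c = f x := by
  intro S hS x hx hcom
  obtain ⟨c, hc, hxc⟩ := CfsgLib.Coprime.exists_centralizing_in_coset (A := S) (N := f.ker)
    (fun a _ => by rw [normalizer_eq_top_iff.2 f.normal_ker]; trivial)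
    ((h.coprime hker).coprime_dvd_left (card_dvd_of_le hS))
    (Or.inl (CfsgLib.Coprime.isSolvable_of_le hS h.solvable_A)) (k := x) (fun a ha => by
      rw [MonoidHom.mem_ker]
      simp only [map_mul, map_inv]
      rw [hcom a ha]; group)
  refine ⟨c, ⟨by simpa using mul_mem hx (hker hxc), hc⟩, ?_⟩
  rw [MonoidHom.mem_ker, map_mul, map_inv, inv_mul_eq_one] at hxc
  exact hxc.symm

/-- Images under a homomorphism with kernel in the acted group. -/
theorem map {G' : Type*} [Group G'] [Finite G'] (f : G →* G') (hker : f.ker ≤ K) :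
    Pre q (K.map f) (A.map f) := by
  have hinj : ∀ a ∈ A, ∀ b ∈ A, f a = f b → a = b := by
    intro a ha b hb e
    have h1 : a⁻¹ * b ∈ A ⊓ f.ker := mem_inf.2 ⟨mul_mem (inv_mem ha) hb, by
      rw [MonoidHom.mem_ker, map_mul, map_inv, e, inv_mul_cancel]⟩
    rw [CfsgLib.Coprime.inf_eq_bot_of_coprime (h.coprime hker), mem_bot, inv_mul_eq_one] at h1
    exact h1
  have hlift := h.lift f hker
  refine ⟨h.prime, ⟨⟨?_⟩⟩, ?_, ?_, fun hd => h.not_dvd (hd.trans ?_), ?_, ?_⟩
  · rintro ⟨_, a, ha, rfl⟩ ⟨_, b, hb, rfl⟩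
    refine Subtype.ext ?_
    show f a * f b = f b * f a
    rw [← map_mul, ← map_mul]
    exact congrArg f (congrArg Subtype.val (h.comm.is_comm.comm ⟨a, ha⟩ ⟨b, hb⟩))
  · rintro _ ⟨a, ha, rfl⟩
    rw [← map_pow, h.exp a ha, map_one]
  · rw [← h.card]
    refine (Nat.card_congr (Equiv.ofBijective
      (fun a : A => (⟨f a, mem_map_of_mem f a.2⟩ : A.map f)) ⟨?_, ?_⟩)).symm
    · exact fun a b e => Subtype.ext (hinj _ a.2 _ b.2 (congrArg Subtype.val e))
    · rintro ⟨_, a, ha, rfl⟩; exact ⟨⟨a, ha⟩, rfl⟩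
  · exact card_map_dvd K f
  · rintro _ ⟨a, ha, rfl⟩
    rw [mem_normalizer_iff]
    refine fun y => ⟨?_, ?_⟩
    · rintro ⟨x, hx, rfl⟩
      exact ⟨a * x * a⁻¹, (mem_normalizer_iff.1 (h.norm ha) x).1 hx, by simp⟩
    · rintro ⟨x, hx, he⟩
      refine ⟨a⁻¹ * x * a, (mem_normalizer_iff''.1 (h.norm ha) x).1 hx, ?_⟩
      simp [he, mul_assoc]
  · rintro _ ⟨a, ha, rfl⟩ ha1
    have ha1' : a ≠ 1 := fun e => ha1 (by rw [e, map_one])
    refine ⟨⟨?_⟩⟩
    rintro ⟨_, ⟨x, hx, rfl⟩, hxc⟩ ⟨_, ⟨y, hy, rfl⟩, hyc⟩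
    have key : ∀ x ∈ K, f x ∈ centralizer ({f a} : Set G') →
        ∃ c ∈ K ⊓ centralizer ({a} : Set G), f c = f x := by
      intro x hx hxc
      obtain ⟨c, hc, he⟩ := hlift (zpowers a) (h.zpowers_le ha) x hx (by
        intro b hb
        obtain ⟨i, rfl⟩ := mem_zpowers_iff.1 hb
        rw [map_zpow]
        exact ((show Commute (f x) (f a) from mem_centralizer_singleton_iff.1 hxc).zpow_right i).eq.symm)
      exact ⟨c, ⟨hc.1, by rw [← centralizer_zpowers_eq]; exact hc.2⟩, he⟩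
    obtain ⟨c, hc, hce⟩ := key x hx hxc
    obtain ⟨d, hd, hde⟩ := key y hy hyc
    refine Subtype.ext ?_
    show f x * f y = f y * f x
    rw [← hce, ← hde, ← map_mul, ← map_mul]
    exact congrArg f (congrArg (fun z : ↥(K ⊓ centralizer ({a} : Set G)) => (z : G))
      ((h.cent a ha ha1').is_comm.comm ⟨c, hc⟩ ⟨d, hd⟩))

/-- Restriction to an intermediate group. -/
theorem subgroupOf {Γ : Subgroup G} (hKΓ : K ≤ Γ) (hAΓ : A ≤ Γ) :
    Pre q (K.subgroupOf Γ) (A.subgroupOf Γ) := by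
  refine ⟨h.prime, ⟨⟨fun a b => Subtype.ext (Subtype.ext
    (congrArg (fun z : A => (z : G)) (h.comm.is_comm.comm ⟨_, a.2⟩ ⟨_, b.2⟩)))⟩⟩,
    fun a ha => Subtype.ext (by simpa using h.exp _ ha), ?_, ?_, ?_, fun a ha ha1 => ⟨⟨fun u v =>
      Subtype.ext (Subtype.ext (congrArg (fun z : ↥(K ⊓ centralizer ({(a : G)} : Set G)) => (z : G))
        ((h.cent _ ha (fun e => ha1 (Subtype.ext e))).is_comm.comm
          ⟨_, u.2.1, mem_centralizer_singleton_iff.2
            (congrArg Subtype.val (mem_centralizer_singleton_iff.1 u.2.2))⟩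
          ⟨_, v.2.1, mem_centralizer_singleton_iff.2
            (congrArg Subtype.val (mem_centralizer_singleton_iff.1 v.2.2))⟩)))⟩⟩⟩
  · rw [Nat.card_congr (subgroupOfEquivOfLe hAΓ).toEquiv, h.card]
  · rw [Nat.card_congr (subgroupOfEquivOfLe hKΓ).toEquiv]; exact h.not_dvd
  · exact le_normalizer_of_conj_mem fun a ha u hu => (mem_normalizer_iff.1 (h.norm ha) u).1 hu

end Pre

namespace Act

variable {q : ℕ} {K A : Subgroup G} (h : Act q K A)
include h

/-- Restriction to an intermediate group. -/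
theorem subgroupOf {Γ : Subgroup G} (hKΓ : K ≤ Γ) (hAΓ : A ≤ Γ) :
    Act q (K.subgroupOf Γ) (A.subgroupOf Γ) := by
  refine ⟨h.toPre.subgroupOf hKΓ hAΓ, ?_⟩
  rw [eq_bot_iff]
  rintro u ⟨hu, hua⟩
  refine Subgroup.mem_bot.2 (Subtype.ext (Subgroup.mem_bot.1 (h.free.le ⟨hu, ?_⟩)))
  exact mem_centralizer_iff.2 fun a ha =>
    congrArg Subtype.val (mem_centralizer_iff.1 hua ⟨a, hAΓ ha⟩ ha)

/-- Images under a homomorphism with kernel in the acted group. -/
theorem map {G' : Type*} [Group G'] [Finite G'] (f : G →* G') (hker : f.ker ≤ K) :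
    Act q (K.map f) (A.map f) := by
  refine ⟨h.toPre.map f hker, ?_⟩
  rw [eq_bot_iff]
  rintro _ ⟨⟨x, hx, rfl⟩, hxc⟩
  obtain ⟨c, hc, he⟩ := h.toPre.lift f hker A le_rfl x hx fun a ha =>
    mem_centralizer_iff.1 hxc (f a) (mem_map_of_mem f ha)
  rw [h.free, mem_bot] at hc
  rw [mem_bot, ← he, hc, map_one]

end Act

end CfsgLib.FgsB.AbCent
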