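import Cfsg.Agent.Lib.FgsB.AbCent.Pairs
import Cfsg.Agent.Lib.Base.HallConverse

/-!
# Groups of operators with abelian fixed point groups act on solvable groups only
-/

set_option autoImplicit false
set_option linter.style.haveILetI false
set_option linter.unusedSectionVars false

open scoped Pointwise commutatorElement

namespace CfsgLib.FgsB.AbCent

open Subgroup

universe u

variable {G : Type u} [Group G] [Finite G] {q : ℕ} {K A : Subgroup G}

/-- Two permuting subgroups. -/
theorem coe_sup_of_permute {X U : Subgroup G}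
    (h : (X : Set G) * (U : Set G) = (U : Set G) * (X : Set G)) :
    ((X ⊔ U : Subgroup G) : Set G) = (X : Set G) * (U : Set G) := by
  refine Set.Subset.antisymm ?_ ?_
  · let Y : Subgroup G :=
      { carrier := (X : Set G) * (U : Set G)
        one_mem' := ⟨1, one_mem X, 1, one_mem U, one_mul 1⟩
        mul_mem' := by
          rintro _ _ ⟨a, ha, b, hb, rfl⟩ ⟨a', ha', b', hb', rfl⟩
          obtain ⟨a'', ha'', b'', hb'', he⟩ : b * a' ∈ (X : Set G) * (U : Set G) :=
            h ▸ Set.mul_mem_mul hb ha'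
          exact ⟨a * a'', mul_mem ha ha'', b'' * b', mul_mem hb'' hb', by
            calc a * a'' * (b'' * b') = a * (a'' * b'') * b' := by group
              _ = a * (b * a') * b' := by rw [show a'' * b'' = b * a' from he]
              _ = a * b * (a' * b') := by group⟩
        inv_mem' := by
          rintro _ ⟨a, ha, b, hb, rfl⟩
          show (a * b)⁻¹ ∈ (X : Set G) * (U : Set G)
          rw [h, mul_inv_rev]
          exact Set.mul_mem_mul (inv_mem hb) (inv_mem ha) }
    exact (sup_le (fun x hx => ⟨x, hx, 1, one_mem U, mul_one x⟩)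
      (fun u hu => ⟨1, one_mem X, u, hu, one_mul u⟩) : X ⊔ U ≤ Y)
  · rintro _ ⟨a, ha, b, hb, rfl⟩
    exact mul_mem (mem_sup_left ha) (mem_sup_right hb)

theorem relIndex_sup_dvd_of_permute {X U : Subgroup G}
    (h : (X : Set G) * (U : Set G) = (U : Set G) * (X : Set G)) :
    X.relIndex (X ⊔ U) ∣ Nat.card U := by
  have hsurj : Function.Surjective
      (quotientSubgroupOfEmbeddingOfLE X (le_sup_right : U ≤ X ⊔ U)) := by
    intro y
    induction y using QuotientGroup.induction_on with
    | H y =>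
      have h1 : (y : G) ∈ (U : Set G) * (X : Set G) := by
        rw [← h, ← coe_sup_of_permute h]; exact y.2
      obtain ⟨u, hu, x, hx, he⟩ := h1
      refine ⟨QuotientGroup.mk ⟨u, hu⟩, QuotientGroup.eq.2 ?_⟩
      rw [mem_subgroupOf]
      show u⁻¹ * (y : G) ∈ X
      rw [show (y : G) = u * x from he.symm, inv_mul_cancel_left]
      exact hx
  have e : X.relIndex (X ⊔ U) = X.relIndex U :=
    (Nat.card_eq_of_bijective _ ⟨(quotientSubgroupOfEmbeddingOfLE X _).injective, hsurj⟩).symm
  rw [e]
  exact relIndex_dvd_card X U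

theorem Act.mul_eq_of_member {r s : ℕ} [Fact r.Prime] [Fact s.Prime] (h : Act q K A) (hrs : r ≠ s)
    {P Q H : Subgroup G} (hP : Syl A K r P) (hQ : Syl A K s Q) (hH : Mem A K r s H) (hPH : P ≤ H)
    (hQH : Q ≤ H) : (P : Set G) * (Q : Set G) = (H : Set G) := by
  have hcop := coprime_of_ne hrs hP.pg hQ.pg
  have hcard : Nat.card P * Nat.card Q = Nat.card H := by
    refine Nat.dvd_antisymm (hcop.mul_dvd_of_dvd_of_dvd (card_dvd_of_le hPH) (card_dvd_of_le hQH)) ?_
    have hi := (h.syl_inf hP hH.1 hH.2.1).idx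
    have hj := (h.syl_inf hQ hH.1 hH.2.1).idx
    rw [inf_eq_left.2 hPH] at hi
    rw [inf_eq_left.2 hQH] at hj
    have h1 : Nat.card P * P.relIndex H = Nat.card H := by
      rw [← relIndex_bot_left, relIndex_mul_relIndex _ _ _ bot_le hPH, relIndex_bot_left]
    have h2 : Nat.card Q * Q.relIndex H = Nat.card H := by
      rw [← relIndex_bot_left, relIndex_mul_relIndex _ _ _ bot_le hQH, relIndex_bot_left]
    have hcij : (P.relIndex H).Coprime (Q.relIndex H) := Nat.coprime_of_dvd fun t ht hti htj => by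
      rcases hH.2.2 t ht (hti.trans (Dvd.intro_left _ h1)) with rfl | rfl
      · exact hi hti
      · exact hj htj
    have h3 : P.relIndex H ∣ Nat.card Q :=
      hcij.dvd_of_dvd_mul_right (h2 ▸ Dvd.intro_left _ h1)
    exact h1 ▸ mul_dvd_mul_left _ h3
  refine Set.Subset.antisymm ?_ fun g hg => ?_
  · rintro _ ⟨a, ha, b, hb, rfl⟩
    exact mul_mem (hPH ha) (hQH hb)
  · have hc : IsComplement' (P.subgroupOf H) (Q.subgroupOf H) := by
      refine isComplement'_of_coprime ?_ ?_ <;>
        rw [Nat.card_congr (subgroupOfEquivOfLe hPH).toEquiv,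
          Nat.card_congr (subgroupOfEquivOfLe hQH).toEquiv]
      · exact hcard
      · exact hcop
    obtain ⟨⟨a, b⟩, hab⟩ := hc.2 ⟨g, hg⟩
    exact ⟨((a : H) : G), a.2, ((b : H) : G), b.2, congrArg Subtype.val hab⟩

theorem Min.permute (h : Min q K A) {r s : ℕ} [hr : Fact r.Prime] [hs : Fact s.Prime]
    {P Q : Subgroup G} (hP : Syl A K r P) (hQ : Syl A K s Q) :
    (P : Set G) * (Q : Set G) = (Q : Set G) * (P : Set G) := by
  by_cases hrs : r = s
  · subst hrs
    rw [le_antisymm (hQ.max P hP.le hP.pg hP.norm) (hP.max Q hQ.le hQ.pg hQ.norm)]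
  by_cases hP0 : P = ⊥
  · subst hP0; simp
  by_cases hQ0 : Q = ⊥
  · subst hQ0; simp
  obtain ⟨H, hH, hPH, hQH⟩ : ∃ H, Mem A K r s H ∧ P ≤ H ∧ Q ≤ H := by
    by_contra hcon
    push Not at hcon
    exact Ctx.elim ⟨h, hr.out, hs.out, hrs, hP, hQ, hP0, hQ0, hcon⟩
  rw [h.toAct.mul_eq_of_member hrs hP hQ hH hPH hQH,
    h.toAct.mul_eq_of_member (Ne.symm hrs) hQ hP hH.symm hQH hPH]

theorem Min.elim (h : Min q K A) : False := by
  refine h.nonsolv (CfsgLib.Base.isSolvable_of_pComplements fun p hp => ?_)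
  by_cases hpd : ¬ p ∣ Nat.card K
  · exact ⟨⊤, by rw [index_top, Nat.factorization_eq_zero_of_not_dvd hpd, pow_zero]⟩
  push Not at hpd
  have hsyl : ∀ t : ℕ, ∃ P : Subgroup G, t.Prime → Syl A K t P := by
    intro t
    by_cases ht : t.Prime
    · haveI := Fact.mk ht
      obtain ⟨P, hP⟩ := h.toAct.exists_syl t
      exact ⟨P, fun _ => hP⟩
    · exact ⟨⊥, fun h => absurd h ht⟩
  choose S hS using hsyl
  have key : ∀ π : Finset ℕ, (∀ t ∈ π, t.Prime) → ∃ X : Subgroup G, X ≤ K ∧ (∀ t ∈ π, S t ≤ X) ∧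
      (∀ t : ℕ, t.Prime → t ∣ Nat.card X → t ∈ π) ∧
      ∀ u : ℕ, u.Prime → (X : Set G) * (S u : Set G) = (S u : Set G) * (X : Set G) := by
    intro π
    induction π using Finset.induction_on with
    | empty =>
      exact fun _ => ⟨⊥, bot_le, by simp, fun t ht hd => absurd (by simpa using hd) ht.ne_one,
        fun u _ => by simp⟩
    | insert v π hv ih =>
      intro hπ
      have hvp : v.Prime := hπ v (Finset.mem_insert_self v π)
      haveI := Fact.mk hvp
      obtain ⟨X, hXK, hXS, hXp, hXperm⟩ := ih fun t ht => hπ t (Finset.mem_insert_of_mem ht)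
      have hcomm := hXperm v hvp
      refine ⟨X ⊔ S v, sup_le hXK (hS v hvp).le, ?_, ?_, ?_⟩
      · intro t ht
        rcases Finset.mem_insert.1 ht with rfl | ht
        · exact le_sup_right
        · exact (hXS t ht).trans le_sup_left
      · intro t ht hd
        rw [← relIndex_bot_left, ← relIndex_mul_relIndex _ _ _ bot_le (le_sup_left : X ≤ X ⊔ S v),
          relIndex_bot_left] at hd
        rcases ht.dvd_mul.1 hd with hd | hd
        · exact Finset.mem_insert_of_mem (hXp t ht hd)
        · obtain ⟨k, hk⟩ := IsPGroup.iff_card.1 (hS v hvp).pg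
          have h1 := hd.trans (relIndex_sup_dvd_of_permute hcomm)
          rw [hk] at h1
          rw [(Nat.prime_dvd_prime_iff_eq ht hvp).1 (ht.dvd_of_dvd_pow h1)]
          exact Finset.mem_insert_self v π
      · intro u hu
        haveI := Fact.mk hu
        rw [coe_sup_of_permute hcomm, mul_assoc, h.permute (hS v hvp) (hS u hu), ← mul_assoc,
          hXperm u hu, mul_assoc]
  obtain ⟨X, hXK, hXS, hXp, -⟩ := key ((Nat.card K).primeFactors.erase p)
    fun t ht => Nat.prime_of_mem_primeFactors (Finset.mem_of_mem_erase ht)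
  refine ⟨X.subgroupOf K, CfsgLib.Base.index_eq_ordProj hp _ (fun t ht hd => ?_) fun hd => ?_⟩
  · by_contra htp
    have htK : t ∣ Nat.card K := hd.trans (index_dvd_card _)
    exact (hS t ht).idx (hd.trans (relIndex_dvd_of_le_left _ (hXS t (Finset.mem_erase.2
      ⟨htp, Nat.mem_primeFactors.2 ⟨ht, htK, Nat.card_pos.ne'⟩⟩))))
  · rw [Nat.card_congr (subgroupOfEquivOfLe hXK).toEquiv] at hd
    exact Finset.notMem_erase p _ (hXp p hp hd)

theorem isSolvable_of_pre : ∀ (n : ℕ) {G : Type u} [Group G] [Finite G] {q : ℕ}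
    {K A : Subgroup G}, Nat.card K = n → Pre q K A → Group.IsSolvable K := by
  intro n
  induction n using Nat.strong_induction_on with
  | _ n ih =>
  intro G _ _ q K A hn h
  subst hn
  by_contra hns
  have hlt : ∀ H : Subgroup G, H ≤ K → H ≠ K → Nat.card H < Nat.card K := fun H hH hne =>
    lt_of_le_of_ne (card_le_of_le hH) fun e => hne (eq_of_le_of_card_ge hH e.ge)
  have hsolv : ∀ H : Subgroup G, H ≤ K → A ≤ normalizer (H : Set G) → H ≠ K →
      Group.IsSolvable H := fun H hH hHA hne => ih _ (hlt H hH hne) rfl (h.mono hH hHA)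
  have hsimple : ∀ N : Subgroup G, N ≤ K → A ≤ normalizer (N : Set G) →
      K ≤ normalizer (N : Set G) → N = ⊥ ∨ N = K := by
    intro N hNK hNA hKN
    by_contra hcon
    push Not at hcon
    set Γ := normalizer (N : Set G) with hΓ
    haveI : (N.subgroupOf Γ).Normal := normal_subgroupOf_of_le_normalizer le_rfl
    set f : Γ →* Γ ⧸ N.subgroupOf Γ := QuotientGroup.mk' _ with hf
    set K0 := K.subgroupOf Γ with hK0
    have hker : f.ker ≤ K0 := by
      rw [hf, QuotientGroup.ker_mk']; exact fun v hv => hNK hv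
    have hq := (h.subgroupOf hKN hNA).map f hker
    have hcard : Nat.card ↥(K0.map f) < Nat.card K := by
      rw [← Nat.card_congr (subgroupOfEquivOfLe hKN).toEquiv]
      refine lt_of_le_of_ne (Nat.le_of_dvd Nat.card_pos (card_map_dvd _ f)) fun e => hcon.1 ?_
      have hinj : Function.Injective (f.subgroupMap K0) :=
        ((Nat.bijective_iff_surjective_and_card _).2 ⟨f.subgroupMap_surjective _, e.symm⟩).1
      refine le_bot_iff.1 fun v hv => ?_
      have h2 : (⟨⟨v, le_normalizer hv⟩, hNK hv⟩ : K0) = 1 := hinj (Subtype.ext (by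
        show f ⟨v, le_normalizer hv⟩ = f 1
        rw [map_one]; exact (QuotientGroup.eq_one_iff _).2 hv))
      exact Subgroup.mem_bot.2 (congrArg (fun z : K0 => ((z : Γ) : G)) h2)
    haveI hsQ := ih _ hcard rfl hq
    haveI hsN : Group.IsSolvable ↥(N.subgroupOf Γ) :=
      CfsgLib.Coprime.isSolvable_subgroupOf _ (hsolv N hNK hNA hcon.2)
    have hle : N.subgroupOf Γ ≤ K0 := fun v hv => hNK hv
    haveI : Group.IsSolvable K0 :=
      Group.isSolvable_of_ker_le_range (inclusion hle) (f.subgroupMap K0) (by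
        intro v hv
        have : (v : Γ) ∈ N.subgroupOf Γ :=
          (QuotientGroup.eq_one_iff _).1 (congrArg Subtype.val hv)
        exact ⟨⟨v, this⟩, rfl⟩)
    exact hns (Group.isSolvable_of_surjective (f := (subgroupOfEquivOfLe hKN).toMonoidHom)
      (subgroupOfEquivOfLe hKN).surjective)
  have hfree : K ⊓ centralizer (A : Set G) = ⊥ := by
    set C := K ⊓ centralizer (A : Set G) with hC
    set Z := K ⊓ centralizer (K : Set G) with hZ
    have hCZ : C ≤ Z := by
      refine le_inf inf_le_left (le_centralizer_iff.1 (h.gen le_rfl h.norm fun a ha ha1 => ?_))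
      intro x hx
      rw [mem_centralizer_iff]
      intro c hc
      exact congrArg Subtype.val ((h.cent a ha ha1).is_comm.comm
        ⟨c, (mem_inf.1 hc).1, centralizer_le (Set.singleton_subset_iff.2 ha) (mem_inf.1 hc).2⟩ ⟨x, hx⟩)
    rcases hsimple Z inf_le_left
      (CfsgLib.Coprime.le_normalizer_inf_inf h.norm (CfsgLib.Coprime.le_normalizer_centralizer h.norm))
      (CfsgLib.Coprime.le_normalizer_inf_inf le_normalizer
        (CfsgLib.Coprime.le_normalizer_centralizer le_normalizer)) with h0 | h0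
    · exact le_bot_iff.1 (hCZ.trans h0.le)
    · exact absurd (Group.isSolvable_of_comm fun a b => Subtype.ext
        (mem_centralizer_iff.1 ((h0.ge.trans inf_le_right) b.2) a a.2)) hns
  exact Min.elim (q := q) (A := A) (K := K) ⟨⟨h, hfree⟩, hsolv, hsimple, hns⟩

end CfsgLib.FgsB.AbCent
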