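import Cfsg.Agent.Lib.FgsB.AbCent.Tools

/-!
# Maximal invariant subgroups for two primes
-/

set_option autoImplicit false
set_option linter.style.haveILetI false
set_option linter.unusedSectionVars false

open scoped Pointwise commutatorElement

namespace CfsgLib.FgsB.AbCent

open Subgroup

universe u

variable {G : Type u} [Group G] [Finite G]

/-- A minimal nonsolvable configuration. -/
structure Min (q : ℕ) (K A : Subgroup G) : Prop extends Act q K A where
  solv : ∀ H : Subgroup G, H ≤ K → A ≤ normalizer (H : Set G) → H ≠ K → Group.IsSolvable H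
  simple : ∀ N : Subgroup G, N ≤ K → A ≤ normalizer (N : Set G) → K ≤ normalizer (N : Set G) →
    N = ⊥ ∨ N = K
  nonsolv : ¬ Group.IsSolvable K

/-- Invariant `{r, s}`-subgroups. -/
def Mem (A K : Subgroup G) (r s : ℕ) (H : Subgroup G) : Prop :=
  H ≤ K ∧ A ≤ normalizer (H : Set G) ∧
    ∀ t : ℕ, t.Prime → t ∣ Nat.card H → t = r ∨ t = s

theorem Mem.symm {A K : Subgroup G} {r s : ℕ} {H : Subgroup G} (hH : Mem A K r s H) :
    Mem A K s r H := ⟨hH.1, hH.2.1, fun t ht hd => (hH.2.2 t ht hd).symm⟩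

/-- Two invariant Sylow subgroups not lying in a common invariant two-prime subgroup. -/
structure Ctx (q : ℕ) (K A : Subgroup G) (r s : ℕ) (P Q : Subgroup G) : Prop where
  min : Min q K A
  pr : r.Prime
  ps : s.Prime
  ne : r ≠ s
  hP : Syl A K r P
  hQ : Syl A K s Q
  P_ne : P ≠ ⊥
  Q_ne : Q ≠ ⊥
  noPerm : ∀ H : Subgroup G, Mem A K r s H → P ≤ H → Q ≤ H → False

theorem Min.solvable_normalizer {q : ℕ} {K A Y : Subgroup G} (h : Min q K A) (hYK : Y ≤ K)
    (hYA : A ≤ normalizer (Y : Set G)) (hY : Y ≠ ⊥) (hYs : Group.IsSolvable Y) :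
    Group.IsSolvable ↥(K ⊓ normalizer (Y : Set G)) ∧ K ⊓ normalizer (Y : Set G) ≠ K := by
  have hne : K ⊓ normalizer (Y : Set G) ≠ K := fun e => by
    rcases h.simple Y hYK hYA (inf_eq_left.1 e) with h1 | h1
    · exact hY h1
    · exact h.nonsolv (h1 ▸ hYs)
  exact ⟨h.solv _ inf_le_left
    (CfsgLib.Coprime.le_normalizer_inf_inf h.norm (hYA.trans le_normalizer)) hne, hne⟩

namespace Ctx

variable {q : ℕ} {K A : Subgroup G} {r s : ℕ} {P Q : Subgroup G} (c : Ctx q K A r s P Q)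
include c

theorem symm : Ctx q K A s r Q P :=
  ⟨c.min, c.ps, c.pr, c.ne.symm, c.hQ, c.hP, c.Q_ne, c.P_ne,
    fun H hH h1 h2 => c.noPerm H hH.symm h2 h1⟩

theorem act : Act q K A := c.min.toAct

theorem mem_of_pGroup {U : Subgroup G} (hUK : U ≤ K) (hUA : A ≤ normalizer (U : Set G))
    (hU : IsPGroup r U) : Mem A K r s U := by
  haveI := Fact.mk c.pr
  refine ⟨hUK, hUA, fun t ht hd => Or.inl ?_⟩
  obtain ⟨n, hn⟩ := IsPGroup.iff_card.1 hU
  rw [hn] at hd
  exact (Nat.prime_dvd_prime_iff_eq ht c.pr).1 (ht.dvd_of_dvd_pow hd)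

theorem solvable {H : Subgroup G} (hH : Mem A K r s H) : Group.IsSolvable H := by
  refine c.min.solv H hH.1 hH.2.1 fun e => c.noPerm H hH ?_ ?_
  · exact e ▸ c.hP.le
  · exact e ▸ c.hQ.le

theorem eq_sup {H : Subgroup G} (hH : Mem A K r s H) : (P ⊓ H) ⊔ (Q ⊓ H) = H := by
  haveI := Fact.mk c.pr
  haveI := Fact.mk c.ps
  refine eq_of_forall_not_dvd (sup_le inf_le_right inf_le_right) fun t ht hd htd => ?_
  rcases hH.2.2 t ht hd with rfl | rfl
  · exact (c.act.syl_inf c.hP hH.1 hH.2.1).idx (htd.trans (relIndex_dvd_of_le_left _ le_sup_left))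
  · exact (c.act.syl_inf c.hQ hH.1 hH.2.1).idx (htd.trans (relIndex_dvd_of_le_left _ le_sup_right))

/-- The largest member in a normaliser. -/
theorem exists_top {Y : Subgroup G} (hYK : Y ≤ K) (hYA : A ≤ normalizer (Y : Set G)) (hY : Y ≠ ⊥)
    (hYs : Group.IsSolvable Y) :
    ∃ W, Mem A K r s W ∧ W ≤ normalizer (Y : Set G) ∧
      P ⊓ normalizer (Y : Set G) ≤ W ∧ Q ⊓ normalizer (Y : Set G) ≤ W ∧
      ∀ X, Mem A K r s X → X ≤ normalizer (Y : Set G) → X ≤ W := by
  haveI := Fact.mk c.pr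
  haveI := Fact.mk c.ps
  set N := K ⊓ normalizer (Y : Set G) with hN
  have hNA : A ≤ normalizer (N : Set G) :=
    CfsgLib.Coprime.le_normalizer_inf_inf c.act.norm (hYA.trans le_normalizer)
  obtain ⟨W, ⟨hWN, hWπ, hWi⟩, hWA, -⟩ := CfsgLib.Coprime.exists_invariant_piHall_ge
    (π := {t | t = r ∨ t = s}) (U := ⊥) hNA (c.act.coprime inf_le_left)
    (c.min.solvable_normalizer hYK hYA hY hYs).1 bot_le
    (le_normalizer_of_conj_mem fun g _ u hu => by simp_all [Subgroup.mem_bot])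
    (fun t ht hd => absurd (by simpa using hd) ht.ne_one)
  have hW : Mem A K r s W := ⟨hWN.trans inf_le_left, hWA, hWπ⟩
  have key : ∀ (t : ℕ) [Fact t.Prime] (S : Subgroup G), Syl A K t S → (t = r ∨ t = s) →
      S ⊓ normalizer (Y : Set G) ≤ W := by
    intro t ht S hS htπ
    have hSN : S ⊓ normalizer (Y : Set G) ≤ N := le_inf (inf_le_left.trans hS.le) inf_le_right
    set S1 := S ⊓ normalizer (Y : Set G)
    have hS1 : IsPGroup t S1 := hS.pg.to_le inf_le_left
    have hsyl := c.act.syl_inf hS hW.1 hWA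
    have hle : S ⊓ W ≤ S1 := le_inf inf_le_left (inf_le_right.trans (hWN.trans inf_le_right))
    refine le_trans ?_ (inf_le_right : S ⊓ W ≤ W)
    rw [← relIndex_eq_one]
    by_contra hne
    obtain ⟨n, hn⟩ := IsPGroup.iff_card.1 hS1
    obtain ⟨m, -, hm⟩ := (Nat.dvd_prime_pow ht.out).1 (hn ▸ relIndex_dvd_card (S ⊓ W) S1)
    have hd : t ∣ (S ⊓ W).relIndex S1 := by
      rw [hm] at hne ⊢
      exact dvd_pow_self t fun e => hne (by rw [e, pow_zero])
    have hd' : t ∣ (S ⊓ W).relIndex N := hd.trans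
      (Dvd.intro _ (relIndex_mul_relIndex _ _ _ hle hSN))
    rw [← relIndex_mul_relIndex _ _ _ (inf_le_right : S ⊓ W ≤ W) hWN] at hd'
    exact (ht.out.dvd_mul.1 hd').elim hsyl.idx (hWi t ht.out htπ)
  have k1 := key r P c.hP (Or.inl rfl)
  have k2 := key s Q c.hQ (Or.inr rfl)
  refine ⟨W, hW, hWN.trans inf_le_right, k1, k2, fun X hX hXY => ?_⟩
  rw [← c.eq_sup hX]
  exact sup_le ((inf_le_inf_left _ hXY).trans k1) ((inf_le_inf_left _ hXY).trans k2)

end Ctx

/-- Maximal members. -/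
def Maxim (A K : Subgroup G) (r s : ℕ) (H : Subgroup G) : Prop :=
  Mem A K r s H ∧ ∀ X, Mem A K r s X → H ≤ X → X = H

theorem Maxim.symm {A K : Subgroup G} {r s : ℕ} {H : Subgroup G} (hH : Maxim A K r s H) :
    Maxim A K s r H := ⟨hH.1.symm, fun X hX => hH.2 X hX.symm⟩

namespace Ctx

variable {q : ℕ} {K A : Subgroup G} {r s : ℕ} {P Q : Subgroup G} (c : Ctx q K A r s P Q)
include c

theorem exists_max {X : Subgroup G} (hX : Mem A K r s X) :
    ∃ M, Maxim A K r s M ∧ X ≤ M := by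
  obtain ⟨M, ⟨hM, hXM⟩, hmax⟩ := Set.Finite.exists_maximal
    (Set.toFinite {M : Subgroup G | Mem A K r s M ∧ X ≤ M}) ⟨X, hX, le_rfl⟩
  exact ⟨M, ⟨hM, fun Z hZ h => le_antisymm (hmax ⟨hZ, hXM.trans h⟩ h) h⟩, hXM⟩

/-- A maximal member owns the normalisers of its normal subgroups. -/
theorem own {H Y X : Subgroup G} (hH : Maxim A K r s H) (hYH : Y ≤ H)
    (hYA : A ≤ normalizer (Y : Set G)) (hYn : H ≤ normalizer (Y : Set G)) (hY : Y ≠ ⊥)
    (hX : Mem A K r s X) (hXY : X ≤ normalizer (Y : Set G)) : X ≤ H := by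
  obtain ⟨W, hW, -, -, -, hall⟩ := c.exists_top (hYH.trans hH.1.1) hYA hY
    (CfsgLib.Coprime.isSolvable_of_le hYH (c.solvable hH.1))
  rw [← hH.2 W hW (hall H hH.1 hYn)]
  exact hall X hX hXY

theorem own_pGroup {H Y U : Subgroup G} (hH : Maxim A K r s H) (hYH : Y ≤ H)
    (hYA : A ≤ normalizer (Y : Set G)) (hYn : H ≤ normalizer (Y : Set G)) (hY : Y ≠ ⊥)
    (hUK : U ≤ K) (hUA : A ≤ normalizer (U : Set G)) (hU : IsPGroup r U)
    (hUY : U ≤ normalizer (Y : Set G)) : U ≤ H :=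
  c.own hH hYH hYA hYn hY (c.mem_of_pGroup hUK hUA hU) hUY

theorem cores_centralize {H R T : Subgroup G} (hR : Core A r H R) (hT : Core A s H T) :
    R ≤ centralizer (T : Set G) := by
  haveI := Fact.mk c.pr
  haveI := Fact.mk c.ps
  exact commute_of_cross (U := R) (D := T) le_rfl (hT.le.trans hR.normal) (hR.le.trans hT.normal)
    le_rfl (CfsgLib.Coprime.inf_eq_bot_of_coprime (coprime_of_ne c.ne hR.pg hT.pg))

theorem derived_le {H R T : Subgroup G} (hH : Mem A K r s H) (hR : Core A r H R)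
    (hT : Core A s H T) : ⁅H, H⁆ ≤ R ⊔ T := by
  haveI := Fact.mk c.pr
  haveI := Fact.mk c.ps
  set D := ⁅H, H⁆ with hD
  have hDH : D ≤ H := commutator_le_self H
  have hnil : Group.IsNilpotent D :=
    isNilpotent_commutator (Nat.card H) rfl (c.act.mono hH.1 hH.2.1) (c.solvable hH)
  have hDA : A ≤ normalizer (D : Set G) := le_normalizer_commutator hH.2.1 hH.2.1
  have hDn : H ≤ normalizer (D : Set G) := le_normalizer_commutator le_normalizer le_normalizer
  have hDm : Mem A K r s D :=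
    ⟨hDH.trans hH.1, hDA, fun t ht hd => hH.2.2 t ht (hd.trans (card_dvd_of_le hDH))⟩
  have key : ∀ (t : ℕ) [Fact t.Prime] (S S' : Subgroup G), Syl A K t S →
      (S ⊓ D) ⊔ (S' ⊓ D) = D → (Nat.card ↥(S ⊓ D)).Coprime (Nat.card ↥(S' ⊓ D)) →
      ∀ O, Core A t H O → S ⊓ D ≤ O := by
    intro t ht S S' hS hgen hcop O hO
    have hDS : D ≤ normalizer ((S ⊓ D : Subgroup G) : Set G) := by
      conv_lhs => rw [← hgen]
      refine sup_le le_normalizer (le_normalizer_of_centralizes fun x hx => mem_centralizer_iff.2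
        fun y hy => ?_)
      exact (CfsgLib.CNGroups.commute_of_coprime hnil (mem_inf.1 hy).2 (mem_inf.1 hx).2
        ((hcop.coprime_dvd_left (orderOf_dvd_natCard _ hy)).coprime_dvd_right
          (orderOf_dvd_natCard _ hx))).eq
    refine hO.max _ (inf_le_right.trans hDH) (hS.pg.to_le inf_le_left)
      (CfsgLib.Coprime.le_normalizer_inf_inf hS.norm hDA) ?_
    refine le_normalizer_of_conj_mem fun g hg u hu => ?_
    obtain ⟨k, hk⟩ := hS.pg ⟨u, (mem_inf.1 hu).1⟩
    refine mem_of_pElement (t := t) (k := k) inf_le_right hDS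
      (c.act.syl_inf hS hDm.1 hDA).idx ((mem_normalizer_iff.1 (hDn hg) u).1 (mem_inf.1 hu).2) ?_
    rw [conj_pow, show u ^ t ^ k = 1 from congrArg Subtype.val hk]; group
  have hcop := coprime_of_ne c.ne (c.hP.pg.to_le (inf_le_left : P ⊓ D ≤ P))
    (c.hQ.pg.to_le (inf_le_left : Q ⊓ D ≤ Q))
  rw [← c.eq_sup hDm]
  exact sup_le_sup (key r P Q c.hP (c.eq_sup hDm) hcop R hR)
    (key s Q P c.hQ (by rw [sup_comm]; exact c.eq_sup hDm) hcop.symm T hT)

/-- An `r`-subgroup centralising the `s`-core lies in the `r`-core. -/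
theorem le_core {H R T U : Subgroup G} (hH : Mem A K r s H) (hR : Core A r H R)
    (hT : Core A s H T) (hUH : U ≤ H) (hUA : A ≤ normalizer (U : Set G)) (hU : IsPGroup r U)
    (hUT : U ≤ centralizer (T : Set G)) : U ≤ R := by
  haveI := Fact.mk c.pr
  haveI := Fact.mk c.ps
  set J := R ⊔ U with hJ
  have hJH : J ≤ H := sup_le hR.le hUH
  have hJr : IsPGroup r J := isPGroup_sup hR.pg hU (hUH.trans hR.normal)
  have hJA : A ≤ normalizer (J : Set G) := CfsgLib.Coprime.le_normalizer_sup_sup hR.norm hUA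
  have hJT : J ≤ centralizer (T : Set G) := sup_le (c.cores_centralize hR hT) hUT
  have hTJ : T ≤ normalizer (J : Set G) :=
    le_normalizer_of_centralizes (le_centralizer_iff.1 hJT)
  refine le_sup_right.trans (hR.max J hJH hJr hJA ?_)
  set M := T ⊔ J with hM
  have hRT : R ⊔ T ≤ M := sup_le (le_sup_left.trans le_sup_right) le_sup_left
  have hMn : M ≤ normalizer (J : Set G) := sup_le hTJ le_normalizer
  refine le_normalizer_of_conj_mem fun g hg u hu => ?_
  obtain ⟨k, hk⟩ := hJr ⟨u, hu⟩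
  refine mem_of_pElement (M := M) (t := r) (k := k) le_sup_right hMn ?_ ?_ ?_
  · intro hd
    obtain ⟨n, hn⟩ := IsPGroup.iff_card.1 hT.pg
    have h1 : Nat.card J * J.relIndex M ∣ Nat.card J * Nat.card T := by
      rw [← relIndex_bot_left, relIndex_mul_relIndex _ _ _ bot_le le_sup_right, relIndex_bot_left,
        relIndex_bot_left, mul_comm (Nat.card J)]
      exact CfsgLib.Coprime.card_sup_dvd hTJ
    have h2 := hd.trans (Nat.dvd_of_mul_dvd_mul_left Nat.card_pos h1)
    rw [hn] at h2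
    exact c.ne ((Nat.prime_dvd_prime_iff_eq c.pr c.ps).1 (c.pr.dvd_of_dvd_pow h2))
  · have h1 : g * u * g⁻¹ * u⁻¹ ∈ M :=
      hRT (c.derived_le hH hR hT (commutator_mem_commutator hg (hJH hu)))
    simpa using mul_mem h1 (mem_sup_right (S := T) hu)
  · rw [conj_pow, show u ^ r ^ k = 1 from congrArg Subtype.val hk]; group

theorem max_ne_bot {H : Subgroup G} (hH : Maxim A K r s H) : H ≠ ⊥ := fun e => c.P_ne (by
  rw [← e]; exact hH.2 P (c.mem_of_pGroup c.hP.le c.hP.norm c.hP.pg) (e ▸ bot_le))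

theorem pure {H R T : Subgroup G} (hH : Maxim A K r s H) (hR : Core A r H R) (hT : Core A s H T)
    (hT0 : T = ⊥) : R = P ∧ P ≤ H ∧ H ≤ normalizer (P : Set G) := by
  haveI := Fact.mk c.pr
  have hD : ⁅H, H⁆ ≤ R := by simpa [hT0] using c.derived_le hH.1 hR hT
  have hRP : R ≤ P ⊓ H := le_inf (c.hP.max R (hR.le.trans hH.1.1) hR.pg hR.norm) hR.le
  have heq : P ⊓ H = R := by
    refine le_antisymm (hR.max _ inf_le_right (c.hP.pg.to_le inf_le_left)
      (CfsgLib.Coprime.le_normalizer_inf_inf c.hP.norm hH.1.2.1) ?_) hRP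
    refine le_normalizer_of_conj_mem fun g hg u hu => ?_
    simpa [commutatorElement_def] using mul_mem (hRP (hD (commutator_mem_commutator hg (mem_inf.1 hu).2))) hu
  have hR0 : R ≠ ⊥ := by
    intro e
    have hQH : Q ⊓ H ≤ T := by
      refine hT.max _ inf_le_right (c.hQ.pg.to_le inf_le_left)
        (CfsgLib.Coprime.le_normalizer_inf_inf c.hQ.norm hH.1.2.1)
        (le_normalizer_of_conj_mem fun g hg u hu => ?_)
      have h1 := hD (commutator_mem_commutator hg (mem_inf.1 hu).2)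
      rw [e, Subgroup.mem_bot, commutatorElement_def, mul_inv_eq_one] at h1
      rw [h1]; exact hu
    refine c.max_ne_bot hH ?_
    rw [← c.eq_sup hH.1, heq, e, le_bot_iff.1 (hQH.trans_eq hT0), bot_sup_eq]
  have hPH : P ≤ R := by
    refine le_of_normalizer_inf_le c.hP.pg (hRP.trans inf_le_left) ?_
    rw [← heq]
    refine le_inf inf_le_left ?_
    rw [heq]
    exact c.own_pGroup hH hR.le hR.norm hR.normal hR0 (inf_le_left.trans c.hP.le)
      (CfsgLib.Coprime.le_normalizer_inf_inf c.hP.norm (hR.norm.trans le_normalizer))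
      (c.hP.pg.to_le inf_le_left) inf_le_right
  have hRP' : R = P := le_antisymm (hRP.trans inf_le_left) hPH
  exact ⟨hRP', hRP' ▸ hR.le, hRP' ▸ hR.normal⟩

theorem center_spec {H R : Subgroup G} (hR : Core A r H R) (hR0 : R ≠ ⊥) :
    R ⊓ centralizer (R : Set G) ≤ H ∧
    A ≤ normalizer ((R ⊓ centralizer (R : Set G) : Subgroup G) : Set G) ∧
    H ≤ normalizer ((R ⊓ centralizer (R : Set G) : Subgroup G) : Set G) ∧
    R ⊓ centralizer (R : Set G) ≠ ⊥ :=
  haveI := Fact.mk c.pr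
  ⟨inf_le_left.trans hR.le,
    CfsgLib.Coprime.le_normalizer_inf_inf hR.norm (CfsgLib.Coprime.le_normalizer_centralizer hR.norm),
    CfsgLib.Coprime.le_normalizer_inf_inf hR.normal
      (CfsgLib.Coprime.le_normalizer_centralizer hR.normal),
    center_ne_bot hR.pg hR0⟩

theorem core_half {H R T M U Dr Ds : Subgroup G} (hH : Maxim A K r s H) (hR : Core A r H R)
    (hT : Core A s H T) (hM : Maxim A K r s M) (hU : Core A r M U) (hR0 : R ≠ ⊥) (hT0 : T ≠ ⊥)
    (hDr : Dr ≤ R) (hDs : Ds ≤ T) (hDrA : A ≤ normalizer (Dr : Set G))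
    (hDsA : A ≤ normalizer (Ds : Set G))
    (hCr : R ⊓ centralizer (Dr : Set G) ≤ Dr) (hCs : T ⊓ centralizer (Ds : Set G) ≤ Ds)
    (hrM : Dr ≤ M) (hsM : Ds ≤ M) : U ≤ R := by
  haveI := Fact.mk c.pr
  haveI := Fact.mk c.ps
  set U1 := U ⊓ H with hU1
  have hU1A : A ≤ normalizer (U1 : Set G) := CfsgLib.Coprime.le_normalizer_inf_inf hU.norm hH.1.2.1
  have hU1r : IsPGroup r U1 := hU.pg.to_le inf_le_left
  have hU1T : U1 ≤ normalizer (T : Set G) := (inf_le_right : U1 ≤ H).trans hT.normal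
  have hUK : U ≤ K := hU.le.trans hM.1.1
  have hU1s : U1 ≤ centralizer (Ds : Set G) :=
    commute_of_cross (U := U) inf_le_left (hsM.trans hU.normal) hU1T hDs
      (CfsgLib.Coprime.inf_eq_bot_of_coprime (coprime_of_ne c.ne hU.pg hT.pg))
  have hU1cop : (Nat.card U1).Coprime s := by
    obtain ⟨n, hn⟩ := IsPGroup.iff_card.1 hU1r
    rw [hn]
    exact Nat.Coprime.pow_left n ((Nat.coprime_primes c.pr c.ps).2 c.ne)
  have hU1R : U1 ≤ R := c.le_core hH.1 hR hT inf_le_right hU1A hU1r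
    (CfsgLib.Components.le_centralizer_of_pTimesQ (hT.pg.to_le hDs) hT.pg
      (hDs.trans le_normalizer) hU1cop hU1s hU1T
      (hU1s.trans (centralizer_le fun x hx => hCs hx)))
  have hDscop : (Nat.card Ds).Coprime r := by
    obtain ⟨n, hn⟩ := IsPGroup.iff_card.1 (hT.pg.to_le hDs)
    rw [hn]
    exact Nat.Coprime.pow_left n ((Nat.coprime_primes c.ps c.pr).2 c.ne.symm)
  have hRT := c.cores_centralize hR hT
  obtain ⟨hZr1, hZr2, hZr3, hZr4⟩ := c.center_spec hR hR0
  obtain ⟨hZs1, hZs2, hZs3, hZs4⟩ := c.symm.center_spec hT hT0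
  have hfix : U ⊓ centralizer (Dr : Set G) ≤ U1 := by
    refine le_inf inf_le_left (c.own_pGroup hH hZr1 hZr2 hZr3 hZr4 (inf_le_left.trans hUK)
      (CfsgLib.Coprime.le_normalizer_inf_inf hU.norm
        (CfsgLib.Coprime.le_normalizer_centralizer hDrA)) (hU.pg.to_le inf_le_left) ?_)
    refine le_normalizer_of_centralizes (inf_le_right.trans (centralizer_le fun x hx => ?_))
    exact hCr (mem_inf.2 ⟨(mem_inf.1 hx).1, centralizer_le (fun y hy => hDr hy) (mem_inf.1 hx).2⟩)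
  have hDsU : Ds ≤ centralizer (U : Set G) :=
    CfsgLib.Components.le_centralizer_of_pTimesQ (hR.pg.to_le hDr) hU.pg (hrM.trans hU.normal)
      hDscop ((hDs.trans (le_centralizer_iff.1 hRT)).trans (centralizer_le hDr))
      (hsM.trans hU.normal) ((le_centralizer_iff.1 hU1s).trans (centralizer_le fun x hx => hfix hx))
  have hUH : U ≤ H := by
    refine c.own_pGroup hH hZs1 hZs2 hZs3 hZs4 hUK hU.norm hU.pg ?_
    refine le_normalizer_of_centralizes ((le_centralizer_iff.1 hDsU).trans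
      (centralizer_le fun x hx => ?_))
    exact hCs (mem_inf.2 ⟨(mem_inf.1 hx).1, centralizer_le (fun y hy => hDs hy) (mem_inf.1 hx).2⟩)
  exact le_trans (le_inf le_rfl hUH) hU1R

theorem core_ne_bot {H R T M U V Dr : Subgroup G} (hH : Maxim A K r s H) (hR : Core A r H R)
    (hT : Core A s H T) (hM : Maxim A K r s M) (hU : Core A r M U) (hV : Core A s M V)
    (hR0 : R ≠ ⊥)
    (hDr : Dr ≤ R) (hDrA : A ≤ normalizer (Dr : Set G)) (hCr : R ⊓ centralizer (Dr : Set G) ≤ Dr)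
    (hrM : Dr ≤ M) (hVT : V ≤ T) : U ≠ ⊥ := by
  intro e
  have h1 : Dr ≤ U := c.le_core hM.1 hU hV hrM hDrA (hR.pg.to_le hDr)
    ((hDr.trans (c.cores_centralize hR hT)).trans (centralizer_le hVT))
  refine (c.center_spec hR hR0).2.2.2 (le_bot_iff.1 (le_trans ?_ (h1.trans e.le)))
  exact le_trans (inf_le_inf_left _ (centralizer_le hDr)) hCr

theorem core {H R T M Dr Ds : Subgroup G} (hH : Maxim A K r s H) (hR : Core A r H R)
    (hT : Core A s H T) (hM : Maxim A K r s M) (hR0 : R ≠ ⊥) (hT0 : T ≠ ⊥)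
    (hDr : Dr ≤ R) (hDs : Ds ≤ T) (hDrA : A ≤ normalizer (Dr : Set G))
    (hDsA : A ≤ normalizer (Ds : Set G))
    (hCr : R ⊓ centralizer (Dr : Set G) ≤ Dr) (hCs : T ⊓ centralizer (Ds : Set G) ≤ Ds)
    (hrM : Dr ≤ M) (hsM : Ds ≤ M) : M = H := by
  haveI := Fact.mk c.pr
  haveI := Fact.mk c.ps
  obtain ⟨U, hU⟩ := exists_core A M r
  obtain ⟨V, hV⟩ := exists_core A M s
  have hUR := c.core_half hH hR hT hM hU hR0 hT0 hDr hDs hDrA hDsA hCr hCs hrM hsM
  have hVT := c.symm.core_half hH.symm hT hR hM.symm hV hT0 hR0 hDs hDr hDsA hDrA hCs hCr hsM hrM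
  have hU0 := c.core_ne_bot hH hR hT hM hU hV hR0 hDr hDrA hCr hrM hVT
  have hV0 := c.symm.core_ne_bot hH.symm hT hR hM.symm hV hU hT0 hDs hDsA hCs hsM hUR
  have hTU : T ≤ centralizer (U : Set G) :=
    (le_centralizer_iff.1 (c.cores_centralize hR hT)).trans (centralizer_le hUR)
  have hRV : R ≤ centralizer (V : Set G) :=
    (c.cores_centralize hR hT).trans (centralizer_le hVT)
  have hTM : T ≤ M := c.symm.own_pGroup hM.symm hU.le hU.norm hU.normal hU0
    (hT.le.trans hH.1.1) hT.norm hT.pg (le_normalizer_of_centralizes hTU)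
  have hRM : R ≤ M := c.own_pGroup hM hV.le hV.norm hV.normal hV0
    (hR.le.trans hH.1.1) hR.norm hR.pg (le_normalizer_of_centralizes hRV)
  have hR_eq : R = U := le_antisymm (c.le_core hM.1 hU hV hRM hR.norm hR.pg hRV) hUR
  have hMH : M ≤ H := c.own hH hR.le hR.norm hR.normal hR0 hM.1 (hR_eq ▸ hU.normal)
  exact (hM.2 H hH.1 hMH).symm

theorem pieces {H R T : Subgroup G} (hH : Maxim A K r s H) (hR : Core A r H R)
    (hT : Core A s H T) (hR0 : R ≠ ⊥) (hT0 : T ≠ ⊥) {a : G} (ha : a ∈ A) (ha1 : a ≠ 1)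
    (hY : R ⊓ centralizer ({a} : Set G) ≠ ⊥) :
    P ⊓ centralizer ({a} : Set G) ≤ H ∧ Q ⊓ centralizer ({a} : Set G) ≤ H := by
  haveI := Fact.mk c.pr
  haveI := Fact.mk c.ps
  set Y := R ⊓ centralizer ({a} : Set G) with hYdef
  have hRK : R ≤ K := hR.le.trans hH.1.1
  have hYK : Y ≤ K ⊓ centralizer ({a} : Set G) := inf_le_inf_right _ hRK
  have hfix := c.act.fixed_le_centralizer ha ha1 hYK
  have hYA : A ≤ normalizer (Y : Set G) := c.act.norm_inf hR.norm ha
  obtain ⟨W, hW, -, hWP, hWQ, hall⟩ := c.exists_top (hYK.trans inf_le_left) hYA hY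
    (solvable_of_pGroup (hR.pg.to_le inf_le_left))
  set Dr := R ⊓ centralizer (Y : Set G) with hDr
  have hDrA : A ≤ normalizer (Dr : Set G) :=
    CfsgLib.Coprime.le_normalizer_inf_inf hR.norm (CfsgLib.Coprime.le_normalizer_centralizer hYA)
  have hYDr : Y ≤ Dr := le_inf inf_le_left (hYK.trans hfix)
  have hCr : R ⊓ centralizer (Dr : Set G) ≤ Dr := inf_le_inf_left _ (centralizer_le hYDr)
  have hrW : Dr ≤ W := hall _ (c.mem_of_pGroup (inf_le_left.trans hRK) hDrA (hR.pg.to_le inf_le_left))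
    (le_normalizer_of_centralizes inf_le_right)
  have hsW : T ≤ W := hall _ (c.symm.mem_of_pGroup (hT.le.trans hH.1.1) hT.norm hT.pg).symm
    (le_normalizer_of_centralizes
      ((le_centralizer_iff.1 (c.cores_centralize hR hT)).trans (centralizer_le inf_le_left)))
  have hP : P ⊓ centralizer ({a} : Set G) ≤ W := le_trans (le_inf inf_le_left
    (le_normalizer_of_centralizes ((inf_le_inf_right _ c.hP.le).trans hfix))) hWP
  have hQ : Q ⊓ centralizer ({a} : Set G) ≤ W := le_trans (le_inf inf_le_left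
    (le_normalizer_of_centralizes ((inf_le_inf_right _ c.hQ.le).trans hfix))) hWQ
  obtain ⟨M, hM, hWM⟩ := c.exists_max hW
  have := c.core hH hR hT hM hR0 hT0 inf_le_left le_rfl hDrA hT.norm hCr inf_le_left
    (hrW.trans hWM) (hsW.trans hWM)
  subst this
  exact ⟨hP.trans hWM, hQ.trans hWM⟩

theorem mixed_left {H R T : Subgroup G} (hH : Maxim A K r s H) (hR : Core A r H R)
    (hT : Core A s H T) (hR0 : R ≠ ⊥) (hT0 : T ≠ ⊥) (hP : ¬ P ≤ H) : False := by
  haveI := Fact.mk c.pr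
  haveI := Fact.mk c.ps
  set Q0 := P ⊓ H with hQ0
  set N0 := P ⊓ normalizer (Q0 : Set G) with hN0
  have hQ0A : A ≤ normalizer (Q0 : Set G) :=
    CfsgLib.Coprime.le_normalizer_inf_inf c.hP.norm hH.1.2.1
  have hN0A : A ≤ normalizer (N0 : Set G) :=
    CfsgLib.Coprime.le_normalizer_inf_inf c.hP.norm (hQ0A.trans le_normalizer)
  have hN0H : ¬ N0 ≤ H := fun h => hP ((le_of_normalizer_inf_le c.hP.pg inf_le_left
    (le_inf inf_le_left h)).trans inf_le_right)
  obtain ⟨x, hx, hx1, hxH⟩ : ∃ x ∈ A, x ≠ 1 ∧ ¬ N0 ⊓ centralizer ({x} : Set G) ≤ H := by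
    by_contra hcon
    push Not at hcon
    exact hN0H (c.act.gen (inf_le_left.trans c.hP.le) hN0A hcon)
  have hfR : R ⊓ centralizer ({x} : Set G) = ⊥ := by
    by_contra hne
    exact hxH ((inf_le_inf_right _ inf_le_left).trans (c.pieces hH hR hT hR0 hT0 hx hx1 hne).1)
  have hfT : T ⊓ centralizer ({x} : Set G) = ⊥ := by
    by_contra hne
    exact hxH ((inf_le_inf_right _ inf_le_left).trans
      (c.symm.pieces hH.symm hT hR hT0 hR0 hx hx1 hne).2)
  have hRQ0 : R ≤ Q0 := le_inf (c.hP.max R (hR.le.trans hH.1.1) hR.pg hR.norm) hR.le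
  have hQ0K : Q0 ≤ K := inf_le_left.trans c.hP.le
  have hdec : Q0 ≤ (Q0 ⊓ centralizer ({x} : Set G)) ⊔ R := by
    refine c.act.gen hQ0K hQ0A fun b hb hb1 => ?_
    by_cases hbx : b ∈ zpowers x
    · rw [c.act.centralizer_eq_of_mem hb hb1 hx hx1 hbx]; exact le_sup_left
    refine le_trans (c.le_core hH.1 hR hT (inf_le_left.trans inf_le_right) (c.act.norm_inf hQ0A hb)
      (c.hP.pg.to_le (inf_le_left.trans inf_le_left)) ?_) le_sup_right
    exact c.act.commute_of_fpf (hT.le.trans hH.1.1) (inf_le_left.trans hQ0K) hT.norm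
      (c.act.norm_inf hQ0A hb) ((inf_le_left.trans inf_le_right).trans hT.normal)
      (coprime_of_ne c.ne (c.hP.pg.to_le (inf_le_left.trans inf_le_left)) hT.pg) hx hx1 hfT
      (c.act.fix_eq_bot hQ0K hb hx hx1 hbx)
  have hZ : zpowers x ≤ A := Subgroup.zpowers_le.2 hx
  have hcomm : ⁅Q0, zpowers x⁆ = R := by
    refine le_antisymm ?_ ?_
    · rw [commutator_le]
      intro g hg a ha
      obtain ⟨y, hy, z, hz, rfl⟩ := (CfsgLib.Coprime.mem_sup_iff_of_le_normalizer
        ((inf_le_left.trans inf_le_right).trans hR.normal)).1 (hdec hg)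
      have hya : y * a = a * y := by
        have h1 : x ∈ centralizer ({y} : Set G) :=
          mem_centralizer_singleton_iff.2 (mem_centralizer_singleton_iff.1 (mem_inf.1 hy).2).symm
        exact (mem_centralizer_singleton_iff.1 ((Subgroup.zpowers_le.2 h1) ha)).symm
      have e : ⁅y * z, a⁆ = y * (z * (a * z⁻¹ * a⁻¹)) * y⁻¹ := by
        have h2 : y⁻¹ * a⁻¹ = a⁻¹ * y⁻¹ := by rw [← mul_inv_rev, ← hya, mul_inv_rev]
        rw [commutatorElement_def, mul_inv_rev]
        calc y * z * a * (z⁻¹ * y⁻¹) * a⁻¹ = y * (z * a * z⁻¹ * (y⁻¹ * a⁻¹)) := by group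
          _ = y * (z * a * z⁻¹ * (a⁻¹ * y⁻¹)) := by rw [h2]
          _ = _ := by group
      rw [e]
      exact (mem_normalizer_iff.1 (hR.normal (mem_inf.1 (mem_inf.1 hy).1).2) _).1
        (mul_mem hz ((mem_normalizer_iff.1 (hR.norm (hZ ha)) _).1 (inv_mem hz)))
    · have h1 := CfsgLib.Coprime.commutator_sup_centralizer (hZ.trans hR.norm)
        ((c.act.coprime (hR.le.trans hH.1.1)).coprime_dvd_left (card_dvd_of_le hZ))
        (Or.inr (solvable_of_pGroup hR.pg))
      rw [Pre.centralizer_zpowers_eq, hfR, sup_bot_eq] at h1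
      exact h1.ge.trans (commutator_mono hRQ0 le_rfl)
  refine hxH (c.own_pGroup hH hR.le hR.norm hR.normal hR0
    ((inf_le_left.trans inf_le_left).trans c.hP.le) (c.act.norm_inf hN0A hx)
    (c.hP.pg.to_le (inf_le_left.trans inf_le_left)) ?_)
  rw [← hcomm]
  refine le_normalizer_commutator (inf_le_left.trans inf_le_right) (le_normalizer_of_centralizes ?_)
  rw [Pre.centralizer_zpowers_eq]
  exact inf_le_right

theorem not_mixed {H R T : Subgroup G} (hH : Maxim A K r s H) (hR : Core A r H R)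
    (hT : Core A s H T) : R = ⊥ ∨ T = ⊥ := by
  by_contra hne
  push Not at hne
  by_cases hP : P ≤ H
  · exact c.symm.mixed_left hH.symm hT hR hne.2 hne.1 fun hQ => c.noPerm H hH.1 hP hQ
  · exact c.mixed_left hH hR hT hne.1 hne.2 hP

/-- Every member normalises one of the two Sylow subgroups. -/
theorem side {X : Subgroup G} (hX : Mem A K r s X) :
    X ≤ normalizer (P : Set G) ∨ X ≤ normalizer (Q : Set G) := by
  haveI := Fact.mk c.pr
  haveI := Fact.mk c.ps
  obtain ⟨M, hM, hXM⟩ := c.exists_max hX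
  obtain ⟨R, hR⟩ := exists_core A M r
  obtain ⟨T, hT⟩ := exists_core A M s
  rcases c.not_mixed hM hR hT with h | h
  · exact Or.inr (hXM.trans (c.symm.pure hM.symm hT hR h).2.2)
  · exact Or.inl (hXM.trans (c.pure hM hR hT h).2.2)

theorem left_of_ge {X : Subgroup G} (hX : Mem A K r s X) (hPX : P ≤ X) :
    X ≤ normalizer (P : Set G) := by
  refine (c.side hX).resolve_right fun h => ?_
  haveI := Fact.mk c.ps
  obtain ⟨W, hW, -, -, hWQ, hall⟩ := c.exists_top c.hQ.le c.hQ.norm c.Q_ne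
    (solvable_of_pGroup c.hQ.pg)
  exact c.noPerm W hW (hPX.trans (hall X hX h)) (le_trans (le_inf le_rfl le_normalizer) hWQ)

theorem cent_bot : Q ⊓ centralizer (P : Set G) = ⊥ := by
  haveI := Fact.mk c.pr
  haveI := Fact.mk c.ps
  obtain ⟨W, hW, -, hWP, hWQ, -⟩ := c.exists_top c.hP.le c.hP.norm c.P_ne
    (solvable_of_pGroup c.hP.pg)
  obtain ⟨M, hM, hWM⟩ := c.exists_max hW
  have hPM : P ≤ M := (le_trans (le_inf le_rfl le_normalizer) hWP).trans hWM
  obtain ⟨R, hR⟩ := exists_core A M r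
  obtain ⟨T, hT⟩ := exists_core A M s
  rcases c.not_mixed hM hR hT with h | h
  · exact (c.noPerm M hM.1 hPM (c.symm.pure hM.symm hT hR h).2.1).elim
  · have hRP := (c.pure hM hR hT h).1
    rw [eq_bot_iff, ← h]
    refine c.symm.le_core hM.1.symm hT hR ?_ (CfsgLib.Coprime.le_normalizer_inf_inf c.hQ.norm
      (CfsgLib.Coprime.le_normalizer_centralizer c.hP.norm)) (c.hQ.pg.to_le inf_le_left)
      (hRP ▸ inf_le_right)
    exact (le_trans (le_inf inf_le_left (le_normalizer_of_centralizes inf_le_right)) hWQ).trans hWM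

theorem fixed_le_normalizer {b : G} (hb : b ∈ A) (hb1 : b ≠ 1)
    (hE : P ⊓ centralizer ({b} : Set G) ≠ ⊥) :
    Q ⊓ centralizer ({b} : Set G) ≤ normalizer (P : Set G) := by
  haveI := Fact.mk c.pr
  haveI := Fact.mk c.ps
  set E := P ⊓ centralizer ({b} : Set G) with hEdef
  have hEK : E ≤ K ⊓ centralizer ({b} : Set G) := inf_le_inf_right _ c.hP.le
  have hEA : A ≤ normalizer (E : Set G) := c.act.norm_inf c.hP.norm hb
  obtain ⟨W, hW, -, hWP, hWQ, -⟩ := c.exists_top (hEK.trans inf_le_left) hEA hE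
    (solvable_of_pGroup (c.hP.pg.to_le inf_le_left))
  have hfixE := c.act.fixed_le_centralizer hb hb1 hEK
  have hEW : E ≤ W := le_trans (le_inf inf_le_left le_normalizer) hWP
  have hQW : Q ⊓ centralizer ({b} : Set G) ≤ W := le_trans (le_inf inf_le_left
    (le_normalizer_of_centralizes ((inf_le_inf_right _ c.hQ.le).trans hfixE))) hWQ
  rcases c.side hW with hs | hs
  · exact hQW.trans hs
  have hEQ : E ≤ normalizer (Q : Set G) := hEW.trans hs
  set Z := P ⊓ centralizer (P : Set G) with hZdef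
  have hZA : A ≤ normalizer (Z : Set G) := CfsgLib.Coprime.le_normalizer_inf_inf c.hP.norm
    (CfsgLib.Coprime.le_normalizer_centralizer c.hP.norm)
  have hZK : Z ≤ K := inf_le_left.trans c.hP.le
  obtain ⟨x, hx, hx1, hZx⟩ : ∃ x ∈ A, x ≠ 1 ∧ Z ⊓ centralizer ({x} : Set G) ≠ ⊥ := by
    by_contra hcon
    push Not at hcon
    exact center_ne_bot c.hP.pg c.P_ne
      (le_bot_iff.1 (c.act.gen hZK hZA fun a ha ha1 => (hcon a ha ha1).le))
  set Zx := Z ⊓ centralizer ({x} : Set G) with hZxdef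
  have hZxK : Zx ≤ K ⊓ centralizer ({x} : Set G) := inf_le_inf_right _ hZK
  obtain ⟨W', hW', -, hWP', hWQ', -⟩ := c.exists_top (hZxK.trans inf_le_left)
    (c.act.norm_inf hZA hx) hZx (solvable_of_pGroup (c.hP.pg.to_le (inf_le_left.trans inf_le_left)))
  have hPW' : P ≤ W' := le_trans (le_inf le_rfl (le_normalizer_of_centralizes
    (le_centralizer_iff.1 (inf_le_left.trans inf_le_right)))) hWP'
  have hQx : Q ⊓ centralizer ({x} : Set G) ≤ normalizer (P : Set G) := le_trans (le_trans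
    (le_inf inf_le_left (le_normalizer_of_centralizes
      ((inf_le_inf_right _ c.hQ.le).trans (c.act.fixed_le_centralizer hx hx1 hZxK)))) hWQ')
    (c.left_of_ge hW' hPW')
  by_cases hbx : b ∈ zpowers x
  · rw [c.act.centralizer_eq_of_mem hb hb1 hx hx1 hbx]; exact hQx
  exfalso
  have hQxE : Q ⊓ centralizer ({x} : Set G) ≤ centralizer (E : Set G) :=
    commute_of_cross (U := Q) inf_le_left hEQ hQx inf_le_left
      (CfsgLib.Coprime.inf_eq_bot_of_coprime (coprime_of_ne c.ne.symm c.hQ.pg c.hP.pg))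
  have hEx : E ⊓ centralizer ({x} : Set G) = ⊥ := c.act.fix_eq_bot c.hP.le hb hx hx1 hbx
  have hEc := c.act.le_centralizer_of_fixed c.ne c.hQ.le (hEK.trans inf_le_left) c.hQ.pg
    (c.hP.pg.to_le inf_le_left) c.hQ.norm hEA hEQ hx hx1 hEx hQxE
  exact hE (le_bot_iff.1 ((le_inf inf_le_left hEc).trans_eq c.symm.cent_bot))

theorem fixed_eq_bot {x : G} (hx : x ∈ A) (hx1 : x ≠ 1)
    (hQx : Q ⊓ centralizer ({x} : Set G) ≠ ⊥) : P ⊓ centralizer ({x} : Set G) = ⊥ := by
  haveI := Fact.mk c.pr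
  haveI := Fact.mk c.ps
  by_contra hPx
  have hxX := c.fixed_le_normalizer hx hx1 hPx
  obtain ⟨y, hy, hy1, hyX⟩ : ∃ y ∈ A, y ≠ 1 ∧
      ¬ Q ⊓ centralizer ({y} : Set G) ≤ normalizer (P : Set G) := by
    by_contra hcon
    push Not at hcon
    obtain ⟨W, hW, -, hWP, hWQ, -⟩ := c.exists_top c.hP.le c.hP.norm c.P_ne
      (solvable_of_pGroup c.hP.pg)
    exact c.noPerm W hW (le_trans (le_inf le_rfl le_normalizer) hWP)
      (le_trans (le_inf le_rfl (c.act.gen c.hQ.le c.hQ.norm hcon)) hWQ)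
  have hPy : P ⊓ centralizer ({y} : Set G) = ⊥ := by
    by_contra hne; exact hyX (c.fixed_le_normalizer hy hy1 hne)
  have hxy : x ∉ zpowers y := fun h => hyX (by
    rw [← c.act.centralizer_eq_of_mem hx hx1 hy hy1 h]; exact hxX)
  set X0 := Q ⊓ normalizer (P : Set G) with hX0
  have hX0A : A ≤ normalizer (X0 : Set G) :=
    CfsgLib.Coprime.le_normalizer_inf_inf c.hQ.norm (c.hP.norm.trans le_normalizer)
  have hX0K : X0 ≤ K := inf_le_left.trans c.hQ.le
  have hX0y : X0 ≤ centralizer ({y} : Set G) := by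
    refine c.act.gen hX0K hX0A fun b hb hb1 => ?_
    by_cases hby : b ∈ zpowers y
    · rw [c.act.centralizer_eq_of_mem hb hb1 hy hy1 hby]; exact inf_le_right
    refine le_trans (le_trans (le_inf (inf_le_left.trans inf_le_left) ?_) c.cent_bot.le) bot_le
    exact c.act.commute_of_fpf c.hP.le (inf_le_left.trans hX0K) c.hP.norm (c.act.norm_inf hX0A hb)
      (inf_le_left.trans inf_le_right)
      (coprime_of_ne c.ne.symm (c.hQ.pg.to_le (inf_le_left.trans inf_le_left)) c.hP.pg) hy hy1 hPy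
      (c.act.fix_eq_bot hX0K hb hy hy1 hby)
  refine hQx (le_bot_iff.1 (le_trans (le_inf le_rfl ?_)
    (c.act.fix_eq_bot c.hQ.le hx hy hy1 hxy).le))
  exact le_trans (le_inf inf_le_left hxX) hX0y

end Ctx

/-- An invariant Sylow subgroup is fixed by no nontrivial element. -/
theorem Min.not_le_centralizer {q : ℕ} {K A P : Subgroup G} (h : Min q K A) {t : ℕ} [Fact t.Prime]
    (hP : Syl A K t P) {x : G} (hx : x ∈ A) (hx1 : x ≠ 1) :
    P ≤ centralizer ({x} : Set G) → K ⊓ normalizer (P : Set G) ≤ centralizer (P : Set G) := by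
  intro hPx
  set N := K ⊓ normalizer (P : Set G) with hN
  have hZ : zpowers x ≤ A := Subgroup.zpowers_le.2 hx
  have hNA : A ≤ normalizer (N : Set G) :=
    CfsgLib.Coprime.le_normalizer_inf_inf h.norm (hP.norm.trans le_normalizer)
  have hsplit := CfsgLib.Coprime.commutator_sup_centralizer (hZ.trans hNA)
    ((h.toAct.coprime inf_le_left).coprime_dvd_left (card_dvd_of_le hZ))
    (Or.inl (CfsgLib.Coprime.isSolvable_of_le hZ h.toAct.solvable_A))
  rw [← hsplit]
  refine sup_le ?_ ?_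
  · rw [commutator_le]
    intro g hg a ha
    have hPa : P ≤ centralizer ({a} : Set G) := by
      refine hPx.trans ?_
      rw [← Pre.centralizer_zpowers_eq x]
      exact centralizer_le (Set.singleton_subset_iff.2 ha)
    rw [mem_centralizer_iff]
    intro p hp
    have hfix : ∀ p ∈ P, a * p * a⁻¹ = p := fun p hp => by
      rw [← mem_centralizer_singleton_iff.1 (hPa hp), mul_inv_cancel_right]
    have hfix' : ∀ p ∈ P, a⁻¹ * p * a = p := fun p hp => by
      rw [mul_assoc, mem_centralizer_singleton_iff.1 (hPa hp), inv_mul_cancel_left]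
    have hgp : g⁻¹ * p * g ∈ P := (mem_normalizer_iff''.1 (mem_inf.1 hg).2 p).1 hp
    have e : g * a * g⁻¹ * a⁻¹ * p * (g * a * g⁻¹ * a⁻¹)⁻¹ = p := by
      calc g * a * g⁻¹ * a⁻¹ * p * (g * a * g⁻¹ * a⁻¹)⁻¹
          = g * (a * (g⁻¹ * (a⁻¹ * p * a) * g) * a⁻¹) * g⁻¹ := by group
        _ = g * (g⁻¹ * p * g) * g⁻¹ := by rw [hfix' p hp, hfix _ hgp]
        _ = p := by group
    rw [mul_inv_eq_iff_eq_mul] at e
    exact e.symm
  · refine le_trans (inf_le_inf_right _ inf_le_left) ?_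
    rw [Pre.centralizer_zpowers_eq]
    exact h.toAct.fixed_le_centralizer hx hx1 (le_inf hP.le hPx)

end CfsgLib.FgsB.AbCent
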