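import Cfsg.Agent.Lib.FgsB.AbCent.Members
import Cfsg.Agent.Lib.Transfer.ThompsonComplement
import Cfsg.Agent.Lib.Transfer.NormalPComplement

/-!
# Any two invariant Sylow subgroups of a minimal configuration generate a two-prime group
-/

set_option autoImplicit false
set_option linter.style.haveILetI false
set_option linter.unusedSectionVars false

open scoped Pointwise commutatorElement

namespace CfsgLib.FgsB.AbCent

open Subgroup Cfsg

universe u

variable {G : Type u} [Group G] [Finite G] {q : ℕ} {K A : Subgroup G}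

theorem coprime_of_not_dvd {r n : ℕ} (hr : r.Prime) (h : ¬ r ∣ n) (m : ℕ)
    (hm : ∀ t : ℕ, t.Prime → t ∣ m → t = r) : n.Coprime m :=
  Nat.coprime_of_dvd fun t ht htn htm => h (hm t ht htm ▸ htn)

/-- The invariant Sylow subgroup as a Sylow subgroup of the acted group. -/
theorem Syl.exists_sylow {t : ℕ} [Fact t.Prime] {P : Subgroup G} (hP : Syl A K t P) :
    ∃ S : Sylow t K, (S : Subgroup K) = P.subgroupOf K :=
  ⟨(hP.pg.comap_subtype).toSylow hP.idx, rfl⟩

namespace Min

variable (h : Min q K A)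
include h

theorem not_hasNormalPComplement {r : ℕ} [hr : Fact r.Prime] (hrd : r ∣ Nat.card K) :
    ¬ HasNormalPComplement r K := by
  rintro ⟨S, N, hN, hc⟩
  set N' := N.map K.subtype with hN'
  have hN'K : N' ≤ K := map_subtype_le N
  have hNn : K ≤ normalizer (N' : Set G) := by
    refine le_normalizer_of_conj_mem ?_
    rintro g hg _ ⟨n, hn, rfl⟩
    exact ⟨⟨g, hg⟩ * n * ⟨g, hg⟩⁻¹, hN.conj_mem n hn _, rfl⟩
  have hidx : N'.relIndex K = Nat.card (S : Subgroup K) := by
    rw [relIndex, hN', subgroupOf, comap_map_eq_self_of_injective K.subtype_injective,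
      hc.symm.index_eq_card]
  have hNr : ¬ r ∣ Nat.card N' := by
    rw [hN', Nat.card_congr (equivMapOfInjective N _ K.subtype_injective).toEquiv.symm,
      ← hc.index_eq_card]
    exact S.not_dvd_index
  obtain ⟨k, hk⟩ := IsPGroup.iff_card.1 S.2
  have hA : A ≤ normalizer (N' : Set G) := by
    refine le_normalizer_of_conj_mem fun a ha n hn => ?_
    refine mem_of_coprime hNn ((mem_normalizer_iff.1 (h.norm ha) n).1 (hN'K hn)) ?_
    rw [show a * n * a⁻¹ = MulAut.conj a n from rfl, MulEquiv.orderOf_eq, hidx, hk]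
    exact coprime_of_not_dvd hr.out (fun hd => hNr (hd.trans (orderOf_dvd_natCard _ hn))) _
      fun t ht hd => (Nat.prime_dvd_prime_iff_eq ht hr.out).1 (ht.dvd_of_dvd_pow hd)
  rcases h.simple N' hN'K hA hNn with h0 | h0
  · refine h.nonsolv ?_
    have : IsPGroup r K := IsPGroup.of_card (n := k) (by
      rw [← hk, ← hidx, h0, relIndex_bot_left])
    exact solvable_of_pGroup this
  · exact hNr (h0 ▸ hrd)

/-- No element centralises an invariant Sylow subgroup. -/
theorem sylow_not_le_centralizer {r : ℕ} [hr : Fact r.Prime] (hrd : r ∣ Nat.card K) {P : Subgroup G}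
    (hP : Syl A K r P) {x : G} (hx : x ∈ A) (hx1 : x ≠ 1) :
    ¬ P ≤ centralizer ({x} : Set G) := by
  intro hle
  have hNC := h.not_le_centralizer hP hx hx1 hle
  obtain ⟨S, hS⟩ := hP.exists_sylow
  refine h.not_hasNormalPComplement hrd
    (CfsgLib.Transfer.hasNormalPComplement_of_normalizer_le_centralizer S ?_)
  rw [hS]
  intro g hg
  have h1 : (g : G) ∈ centralizer (P : Set G) := by
    refine hNC (mem_inf.2 ⟨g.2, ?_⟩)
    have := le_normalizer_map K.subtype (mem_map_of_mem K.subtype hg)
    rwa [map_subgroupOf_eq_of_le hP.le] at this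
  rw [mem_centralizer_iff]
  exact fun y hy => Subtype.ext (mem_centralizer_iff.1 h1 _ hy)

/-- An invariant solvable subgroup containing a Sylow subgroup on which two independent elements
act without fixed points has a normal complement to it. -/
theorem complement_of_solvable {r : ℕ} [hr : Fact r.Prime] {P H : Subgroup G} (hP : Syl A K r P)
    (hHK : H ≤ K) (hH : A ≤ normalizer (H : Set G)) (hsol : Group.IsSolvable H) (hPH : P ≤ H)
    {y z : G} (hy : y ∈ A) (hy1 : y ≠ 1) (hz : z ∈ A) (hz1 : z ≠ 1) (hzy : z ∉ zpowers y)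
    (hfy : P ⊓ centralizer ({y} : Set G) = ⊥) (hfz : P ⊓ centralizer ({z} : Set G) = ⊥) :
    HasNormalPComplement r H := by
  have hact := h.toAct
  have hPr : ∀ {U : Subgroup G}, ¬ r ∣ Nat.card U → (Nat.card U).Coprime (Nat.card P) := by
    intro U hU
    obtain ⟨k, hk⟩ := IsPGroup.iff_card.1 hP.pg
    exact coprime_of_not_dvd hr.out hU _ fun t ht hd =>
      (Nat.prime_dvd_prime_iff_eq ht hr.out).1 (ht.dvd_of_dvd_pow (hk ▸ hd))
  have hbotA : A ≤ normalizer ((⊥ : Subgroup G) : Set G) :=
    le_normalizer_of_conj_mem fun g _ u hu => by simp_all [Subgroup.mem_bot]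
  have hbotπ : IsPiSubgroup {t : ℕ | t ≠ r} (⊥ : Subgroup G) :=
    fun t ht hd => absurd (by simpa using hd) ht.ne_one
  -- the part of the derived group of order prime to `r`
  set D := ⁅H, H⁆ with hD
  have hDH : D ≤ H := commutator_le_self H
  have hDA : A ≤ normalizer (D : Set G) := le_normalizer_commutator hH hH
  have hDn : H ≤ normalizer (D : Set G) := le_normalizer_commutator le_normalizer le_normalizer
  have hnil : Group.IsNilpotent D := isNilpotent_commutator (Nat.card H) rfl (hact.mono hHK hH) hsol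
  obtain ⟨O, ⟨hOD, hOπ, hOi⟩, hOA, -⟩ := CfsgLib.Coprime.exists_invariant_piHall_ge hDA
    (hact.coprime (hDH.trans hHK)) (CfsgLib.Coprime.isSolvable_of_le hDH hsol) bot_le hbotA hbotπ
  have hOr : ¬ r ∣ Nat.card O := fun hd => hOπ r hr.out hd rfl
  have hPD : (P ⊓ D) ⊔ O = D := by
    refine eq_of_forall_not_dvd (sup_le inf_le_right hOD) fun t ht _ hd => ?_
    by_cases htr : t = r
    · subst htr
      exact (hact.syl_inf hP (hDH.trans hHK) hDA).idx (hd.trans (relIndex_dvd_of_le_left _ le_sup_left))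
    · exact hOi t ht htr (hd.trans (relIndex_dvd_of_le_left _ le_sup_right))
  have hOnD : D ≤ normalizer (O : Set G) := by
    conv_lhs => rw [← hPD]
    refine sup_le (le_normalizer_of_centralizes fun x hx => mem_centralizer_iff.2 fun w hw => ?_)
      le_normalizer
    exact (CfsgLib.CNGroups.commute_of_coprime hnil (hOD hw) (mem_inf.1 hx).2
      (((hPr hOr).coprime_dvd_left (orderOf_dvd_natCard _ hw)).coprime_dvd_right
        (orderOf_dvd_natCard _ (mem_inf.1 hx).1))).eq
  have hOn : H ≤ normalizer (O : Set G) := by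
    refine le_normalizer_of_conj_mem fun g hg u hu => ?_
    refine mem_of_coprime hOnD ((mem_normalizer_iff.1 (hDn hg) u).1 (hOD hu)) ?_
    rw [show g * u * g⁻¹ = MulAut.conj g u from rfl, MulEquiv.orderOf_eq]
    exact coprime_of_not_dvd hr.out (fun hd => hOr (hd.trans (orderOf_dvd_natCard _ hu))) _
      fun t ht hd => by_contra fun htr => hOi t ht htr hd
  -- Frattini
  set W := O ⊔ P with hW
  have hWH : W ≤ H := sup_le (hOD.trans hDH) hPH
  have hDW : D ≤ W := hPD.ge.trans (sup_le (inf_le_left.trans le_sup_right) le_sup_left)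
  have hWn : H ≤ normalizer (W : Set G) := le_normalizer_of_conj_mem fun g hg u hu => by
    simpa [commutatorElement_def] using
      mul_mem (hDW (commutator_mem_commutator hg (hWH hu))) hu
  set NP := H ⊓ normalizer (P : Set G) with hNP
  have hPNP : P ≤ NP := le_inf hPH le_normalizer
  have hfrat : H ≤ NP ⊔ O := by
    haveI : (W.subgroupOf H).Normal := normal_subgroupOf_of_le_normalizer hWn
    have hi : ¬ r ∣ (P.subgroupOf H).index := by
      have := (hact.syl_inf hP hHK hH).idx
      rwa [inf_eq_left.2 hPH] at this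
    set S := (hP.pg.comap_subtype (K := H)).toSylow hi with hS
    have htop := Sylow.normalizer_sup_eq_top' (N := W.subgroupOf H) S
      (fun g hg => le_sup_right (a := O) hg)
    intro g hg
    have h1 : (⟨g, hg⟩ : H) ∈ normalizer (S : Set H) ⊔ W.subgroupOf H := htop.symm ▸ mem_top _
    obtain ⟨n, hn, w, hw, he⟩ :=
      (Subgroup.mem_sup_of_normal_right (t := W.subgroupOf H)).1 h1
    have hnP : (n : G) ∈ NP := by
      refine mem_inf.2 ⟨n.2, ?_⟩
      have h2 : n ∈ normalizer ((P.subgroupOf H : Subgroup H) : Set H) := hn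
      have := le_normalizer_map H.subtype (mem_map_of_mem H.subtype h2)
      rwa [map_subgroupOf_eq_of_le hPH] at this
    rw [show g = (n : G) * w from (congrArg Subtype.val he).symm]
    exact mul_mem (mem_sup_left hnP) ((sup_le le_sup_right (hPNP.trans le_sup_left)) hw)
  -- a complement in the normaliser centralises `P`
  have hNPA : A ≤ normalizer (NP : Set G) :=
    CfsgLib.Coprime.le_normalizer_inf_inf hH (hP.norm.trans le_normalizer)
  obtain ⟨B, ⟨hBN, hBπ, hBi⟩, hBA, -⟩ := CfsgLib.Coprime.exists_invariant_piHall_ge hNPA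
    (hact.coprime (inf_le_left.trans hHK)) (CfsgLib.Coprime.isSolvable_of_le inf_le_left hsol)
    bot_le hbotA hbotπ
  have hBr : ¬ r ∣ Nat.card B := fun hd => hBπ r hr.out hd rfl
  have hBK : B ≤ K := (hBN.trans inf_le_left).trans hHK
  have hBP : P ⊔ B = NP := by
    refine eq_of_forall_not_dvd (sup_le hPNP hBN) fun t ht _ hd => ?_
    by_cases htr : t = r
    · subst htr
      have h1 := (hact.syl_inf hP (inf_le_left.trans hHK) hNPA).idx
      rw [inf_eq_left.2 hPNP] at h1
      exact h1 (hd.trans (relIndex_dvd_of_le_left _ le_sup_left))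
    · exact hBi t ht htr (hd.trans (relIndex_dvd_of_le_left _ le_sup_right))
  have hBC : B ≤ centralizer (P : Set G) := by
    have : B ⊓ centralizer (P : Set G) = B := by
      refine eq_of_forall_not_dvd inf_le_left fun t ht htB hd => ?_
      haveI := Fact.mk ht
      obtain ⟨S, hSB, hSt, hSA, hSi, -⟩ := hact.exists_sylow hBK hBA t
      refine hSi (hd.trans (relIndex_dvd_of_le_left _ (le_inf hSB ?_)))
      have hSK : S ≤ K := hSB.trans hBK
      refine hact.gen hSK hSA fun b hb hb1 => ?_
      obtain ⟨w, hw, hw1, hfw, hbw⟩ : ∃ w ∈ A, w ≠ 1 ∧ P ⊓ centralizer ({w} : Set G) = ⊥ ∧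
          b ∉ zpowers w := by
        by_cases hby : b ∈ zpowers y
        · refine ⟨z, hz, hz1, hfz, fun hbz => hzy ?_⟩
          have e : ∀ w ∈ A, w ≠ 1 → b ∈ zpowers w → zpowers b = zpowers w := fun w hw hw1 hbw =>
            eq_of_le_of_card_ge (Subgroup.zpowers_le.2 hbw) (by
              rw [Nat.card_zpowers, Nat.card_zpowers, hact.orderOf_eq hw hw1, hact.orderOf_eq hb hb1])
          rw [← e y hy hy1 hby, e z hz hz1 hbz]
          exact mem_zpowers z
        · exact ⟨y, hy, hy1, hfy, hby⟩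
      exact hact.commute_of_fpf hP.le (inf_le_left.trans hSK) hP.norm (hact.norm_inf hSA hb)
        ((inf_le_left.trans hSB).trans (hBN.trans inf_le_right))
        (coprime_of_ne (show t ≠ r from fun e => hBr (e ▸ htB)) (hSt.to_le inf_le_left) hP.pg) hw hw1 hfw
        (hact.fix_eq_bot hSK hb hw hw1 hbw)
    exact this ▸ inf_le_right
  -- assemble
  set N' := B ⊔ O with hN'
  have hBH : B ≤ H := hBN.trans inf_le_left
  have hN'r : ¬ r ∣ Nat.card N' := fun hd =>
    (hr.out.dvd_mul.1 (hd.trans (CfsgLib.Coprime.card_sup_dvd (hBH.trans hOn)))).elim hBr hOr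
  have hPN' : P ≤ normalizer (N' : Set G) := CfsgLib.Coprime.le_normalizer_sup_sup
    (le_normalizer_of_centralizes (le_centralizer_iff.1 hBC)) (hPH.trans hOn)
  have hsup : P ⊔ N' = H := by
    refine le_antisymm (sup_le hPH (sup_le hBH (hOD.trans hDH))) (hfrat.trans ?_)
    rw [← hBP, sup_assoc]
  have hn' : H ≤ normalizer (N' : Set G) := by
    rw [← hsup]; exact sup_le hPN' le_normalizer
  obtain ⟨S, hS⟩ : ∃ S : Sylow r H, (S : Subgroup H) = P.subgroupOf H := by
    refine ⟨(hP.pg.comap_subtype).toSylow ?_, rfl⟩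
    have := (hact.syl_inf hP hHK hH).idx
    rwa [inf_eq_left.2 hPH] at this
  have hN'H : N' ≤ H := hsup ▸ le_sup_right
  refine ⟨S, N'.subgroupOf H, normal_subgroupOf_of_le_normalizer hn', ?_⟩
  refine isComplement'_of_coprime ?_ ?_
  · rw [hS, Nat.card_congr (subgroupOfEquivOfLe hN'H).toEquiv,
      Nat.card_congr (subgroupOfEquivOfLe hPH).toEquiv, mul_comm,
      ← CfsgLib.Coprime.card_sup_of_inf_eq_bot hPN'
        (CfsgLib.Coprime.inf_eq_bot_of_coprime (hPr hN'r).symm), hsup]
  · rw [hS, Nat.card_congr (subgroupOfEquivOfLe hN'H).toEquiv,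
      Nat.card_congr (subgroupOfEquivOfLe hPH).toEquiv]
    exact hPr hN'r

/-- Two independent elements without fixed points on an invariant Sylow subgroup: impossible. -/
theorem false_of_two_fpf {r : ℕ} [hr : Fact r.Prime] (hr2 : r ≠ 2) (hrd : r ∣ Nat.card K)
    {P : Subgroup G} (hP : Syl A K r P) (hPne : P ≠ ⊥)
    {y z : G} (hy : y ∈ A) (hy1 : y ≠ 1) (hz : z ∈ A) (hz1 : z ≠ 1) (hzy : z ∉ zpowers y)
    (hfy : P ⊓ centralizer ({y} : Set G) = ⊥) (hfz : P ⊓ centralizer ({z} : Set G) = ⊥) :
    False := by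
  obtain ⟨S, hS⟩ := hP.exists_sylow
  have transfer : ∀ H : Subgroup G, H ≤ K → A ≤ normalizer (H : Set G) → Group.IsSolvable H →
      P ≤ H → ∀ H0 : Subgroup K, H.subgroupOf K = H0 → HasNormalPComplement r H0 := by
    intro H hHK hHA hHs hPH H0 e
    subst e
    exact (CfsgLib.Transfer.hasNormalPComplement_congr (subgroupOfEquivOfLe hHK)).2
      (h.complement_of_solvable hP hHK hHA hHs hPH hy hy1 hz hz1 hzy hfy hfz)
  refine h.not_hasNormalPComplement hrd
    (CfsgLib.Transfer.hasNormalPComplement_of_thompson hr2 S ?_ ?_)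
  · set J := thompsonSubgroupOf r P with hJ
    have hJP : J ≤ P := CfsgLib.PLocal.thompsonSubgroupOf_le r P
    have hJne : J ≠ ⊥ := CfsgLib.Transfer.thompsonSubgroupOf_ne_bot hP.pg hPne
    have hPJ : normalizer (P : Set G) ≤ normalizer (J : Set G) :=
      CfsgLib.Transfer.normalizer_le_normalizer_thompsonSubgroupOf P
    refine transfer (K ⊓ normalizer (J : Set G)) inf_le_left
      (CfsgLib.Coprime.le_normalizer_inf_inf h.norm ((hP.norm.trans hPJ).trans le_normalizer))
      (h.solvable_normalizer (hJP.trans hP.le) (hP.norm.trans hPJ) hJne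
        (solvable_of_pGroup (hP.pg.to_le hJP))).1
      (le_inf hP.le (le_normalizer.trans hPJ)) _ ?_
    have e1 : thompsonSubgroupOf r (S : Subgroup K) = J.subgroupOf K := by
      apply map_injective K.subtype_injective
      rw [hS, CfsgLib.PLocal.map_thompsonSubgroupOf K.subtype_injective,
        map_subgroupOf_eq_of_le hP.le, map_subgroupOf_eq_of_le (hJP.trans hP.le)]
    rw [e1, inf_subgroupOf_left, subgroupOf_normalizer_eq (hJP.trans hP.le)]
  · set Z := P ⊓ centralizer (P : Set G) with hZ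
    have hZA : A ≤ normalizer (Z : Set G) := CfsgLib.Coprime.le_normalizer_inf_inf hP.norm
      (CfsgLib.Coprime.le_normalizer_centralizer hP.norm)
    obtain ⟨hsolN, hneN⟩ := h.solvable_normalizer (inf_le_left.trans hP.le) hZA
      (center_ne_bot hP.pg hPne) (solvable_of_pGroup (hP.pg.to_le inf_le_left))
    refine transfer (K ⊓ centralizer (Z : Set G)) inf_le_left
      (CfsgLib.Coprime.le_normalizer_inf_inf h.norm
        (CfsgLib.Coprime.le_normalizer_centralizer hZA))
      (CfsgLib.Coprime.isSolvable_of_le (inf_le_inf_left _ (centralizer_le_normalizer _)) hsolN)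
      (le_inf hP.le (le_centralizer_iff.1 inf_le_right)) _ ?_
    ext g
    rw [hS, mem_subgroupOf, mem_inf, mem_centralizer_iff, mem_centralizer_iff]
    constructor
    · rintro ⟨-, hg⟩ u hu
      refine Subtype.ext (hg _ (mem_inf.2 ⟨(mem_inf.1 hu).1, ?_⟩))
      exact mem_centralizer_iff.2 fun w hw => congrArg Subtype.val
        (mem_centralizer_iff.1 (mem_inf.1 hu).2 ⟨w, hP.le hw⟩ hw)
    · refine fun hg => ⟨g.2, fun u hu => ?_⟩
      exact congrArg Subtype.val (hg ⟨u, hP.le (mem_inf.1 hu).1⟩ (mem_inf.2 ⟨(mem_inf.1 hu).1,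
        mem_centralizer_iff.2 fun w hw =>
          Subtype.ext (mem_centralizer_iff.1 (mem_inf.1 hu).2 _ hw)⟩))

end Min

namespace Ctx

variable {r s : ℕ} {P Q : Subgroup G} (c : Ctx q K A r s P Q)
include c

theorem dvd_card : r ∣ Nat.card K := by
  haveI := Fact.mk c.pr
  rcases c.hP.pg.card_eq_or_dvd with h | h
  · exact absurd (P.eq_bot_of_card_eq h) c.P_ne
  · exact h.trans (card_dvd_of_le c.hP.le)

theorem false_of_odd (hr2 : r ≠ 2) : False := by
  haveI := Fact.mk c.pr
  haveI := Fact.mk c.ps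
  obtain ⟨y, hy, hy1, hQy⟩ : ∃ y ∈ A, y ≠ 1 ∧ Q ⊓ centralizer ({y} : Set G) ≠ ⊥ := by
    by_contra hcon
    push Not at hcon
    exact c.Q_ne (le_bot_iff.1 (c.act.gen c.hQ.le c.hQ.norm fun a ha ha1 => (hcon a ha ha1).le))
  obtain ⟨z, hz, hz1, hzy, hQz⟩ : ∃ z ∈ A, z ≠ 1 ∧ z ∉ zpowers y ∧
      Q ⊓ centralizer ({z} : Set G) ≠ ⊥ := by
    by_contra hcon
    push Not at hcon
    refine c.min.sylow_not_le_centralizer c.symm.dvd_card c.hQ hy hy1 ?_
    refine c.act.gen c.hQ.le c.hQ.norm fun a ha ha1 => ?_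
    by_cases hay : a ∈ zpowers y
    · rw [c.act.centralizer_eq_of_mem ha ha1 hy hy1 hay]; exact inf_le_right
    · rw [hcon a ha ha1 hay]; exact bot_le
  exact c.min.false_of_two_fpf hr2 c.dvd_card c.hP c.P_ne hy hy1 hz hz1 hzy
    (c.fixed_eq_bot hy hy1 hQy) (c.fixed_eq_bot hz hz1 hQz)

theorem elim : False := by
  by_cases hr2 : r = 2
  · exact c.symm.false_of_odd fun hs2 => c.ne (hr2.trans hs2.symm)
  · exact c.false_of_odd hr2

end Ctx

end CfsgLib.FgsB.AbCent
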