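import Cfsg.Agent.Lib.FgsB.AbCent.Fit
import Cfsg.Agent.Lib.Components.PTimesQ

/-!
# Groups of operators with abelian fixed point groups: auxiliary lemmas
-/

set_option autoImplicit false
set_option linter.style.haveILetI false
set_option linter.unusedSectionVars false

open scoped Pointwise commutatorElement

namespace CfsgLib.FgsB.AbCent

open Subgroup

universe u

variable {G : Type u} [Group G] [Finite G]

theorem mem_of_coprime {M J : Subgroup G} (hn : M ≤ normalizer (J : Set G)) {g : G} (hg : g ∈ M)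
    (hcop : (orderOf g).Coprime (J.relIndex M)) : g ∈ J := by
  haveI : (J.subgroupOf M).Normal := normal_subgroupOf_of_le_normalizer hn
  set x := QuotientGroup.mk' (J.subgroupOf M) ⟨g, hg⟩ with hx
  have h1 : orderOf x ∣ orderOf g := by
    rw [← orderOf_mk g hg, hx]; exact orderOf_map_dvd _ _
  have h2 : orderOf x ∣ J.relIndex M := by
    rw [relIndex, index_eq_card]; exact orderOf_dvd_natCard x
  have h3 := Nat.eq_one_of_dvd_coprimes hcop h1 h2
  rw [orderOf_eq_one_iff, hx, QuotientGroup.mk'_apply, QuotientGroup.eq_one_iff] at h3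
  exact h3

theorem eq_of_forall_not_dvd {J H : Subgroup G} (hJ : J ≤ H)
    (h : ∀ t : ℕ, t.Prime → t ∣ Nat.card H → ¬ t ∣ J.relIndex H) : J = H := by
  refine le_antisymm hJ (relIndex_eq_one.1 ?_)
  by_contra hne
  obtain ⟨t, ht, htd⟩ := Nat.exists_prime_and_dvd hne
  exact h t ht (htd.trans (relIndex_dvd_card _ _)) htd

theorem solvable_of_pGroup {t : ℕ} [Fact t.Prime] {U : Subgroup G} (h : IsPGroup t U) :
    Group.IsSolvable U :=
  haveI := h.isNilpotent
  inferInstance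

theorem coprime_of_ne {r s : ℕ} [Fact r.Prime] [Fact s.Prime] (hrs : r ≠ s) {U V : Subgroup G}
    (hU : IsPGroup r U) (hV : IsPGroup s V) : (Nat.card U).Coprime (Nat.card V) :=
  IsPGroup.coprime_card_of_ne _ _ hrs _ _ hU hV

theorem center_ne_bot {t : ℕ} [Fact t.Prime] {P : Subgroup G} (hP : IsPGroup t P) (hne : P ≠ ⊥) :
    P ⊓ centralizer (P : Set G) ≠ ⊥ :=
  CfsgLib.Base.FPFAut.inf_centralizer_ne_bot hP hne

theorem le_of_normalizer_inf_le {t : ℕ} [Fact t.Prime] {P U : Subgroup G} (hP : IsPGroup t P)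
    (hU : U ≤ P) (h : P ⊓ normalizer (U : Set G) ≤ U) : P ≤ U := by
  by_contra hcon
  have hlt : U.subgroupOf P < ⊤ := lt_top_iff_ne_top.2 fun e => hcon (subgroupOf_eq_top.1 e)
  obtain ⟨y, hy, hyU⟩ := SetLike.exists_of_lt (CfsgLib.PGroups.lt_normalizer hP hlt)
  refine hyU (h (mem_inf.2 ⟨y.2, ?_⟩))
  have := le_normalizer_map P.subtype (mem_map_of_mem P.subtype hy)
  rwa [map_subgroupOf_eq_of_le hU] at this

theorem commute_of_cross {X D U T : Subgroup G} (hXU : X ≤ U) (hDU : D ≤ normalizer (U : Set G))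
    (hXT : X ≤ normalizer (T : Set G)) (hDT : D ≤ T) (hdisj : U ⊓ T = ⊥) :
    X ≤ centralizer (D : Set G) := by
  intro x hx
  rw [mem_centralizer_iff]
  intro d hd
  have h1 : x * d * x⁻¹ * d⁻¹ ∈ U ⊓ T := mem_inf.2 ⟨by
    rw [show x * d * x⁻¹ * d⁻¹ = x * (d * x⁻¹ * d⁻¹) by group]
    exact mul_mem (hXU hx) ((mem_normalizer_iff.1 (hDU hd) _).1 (inv_mem (hXU hx))),
    mul_mem ((mem_normalizer_iff.1 (hXT hx) d).1 (hDT hd)) (inv_mem (hDT hd))⟩
  rw [hdisj, Subgroup.mem_bot, mul_inv_eq_one, mul_inv_eq_iff_eq_mul] at h1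
  exact h1.symm

/-- The largest invariant normal `t`-subgroup. -/
structure Core (A : Subgroup G) (t : ℕ) (H R : Subgroup G) : Prop where
  le : R ≤ H
  pg : IsPGroup t R
  norm : A ≤ normalizer (R : Set G)
  normal : H ≤ normalizer (R : Set G)
  max : ∀ U : Subgroup G, U ≤ H → IsPGroup t U → A ≤ normalizer (U : Set G) →
    H ≤ normalizer (U : Set G) → U ≤ R

theorem exists_core (A H : Subgroup G) (t : ℕ) [Fact t.Prime] : ∃ R, Core A t H R := by
  obtain ⟨R, ⟨h1, h2, h3, h4⟩, hmax⟩ := Set.Finite.exists_maximal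
    (Set.toFinite {R : Subgroup G | R ≤ H ∧ IsPGroup t R ∧ A ≤ normalizer (R : Set G) ∧
      H ≤ normalizer (R : Set G)}) ⟨⊥, bot_le, IsPGroup.of_bot, le_normalizer_of_conj_mem fun g _ u hu => by simp_all [Subgroup.mem_bot], le_normalizer_of_conj_mem fun g _ u hu => by simp_all [Subgroup.mem_bot]⟩
  refine ⟨R, h1, h2, h3, h4, fun U u1 u2 u3 u4 => ?_⟩
  exact le_sup_right.trans (hmax ⟨sup_le h1 u1, isPGroup_sup h2 u2 (u1.trans h4),
    CfsgLib.Coprime.le_normalizer_sup_sup h3 u3,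
    CfsgLib.Coprime.le_normalizer_sup_sup h4 u4⟩ le_sup_left)

/-- An invariant Sylow subgroup containing all invariant `t`-subgroups. -/
structure Syl (A K : Subgroup G) (t : ℕ) (P : Subgroup G) : Prop where
  le : P ≤ K
  pg : IsPGroup t P
  norm : A ≤ normalizer (P : Set G)
  idx : ¬ t ∣ P.relIndex K
  max : ∀ U : Subgroup G, U ≤ K → IsPGroup t U → A ≤ normalizer (U : Set G) → U ≤ P

namespace Act

variable {q : ℕ} {K A : Subgroup G} (h : Act q K A)
include h

theorem exists_syl (t : ℕ) [Fact t.Prime] : ∃ P, Syl A K t P := by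
  obtain ⟨S, h1, h2, h3, h4, h5⟩ := h.exists_sylow le_rfl h.norm t
  exact ⟨S, h1, h2, h3, h4, h5⟩

/-- The invariant Sylow subgroup of an invariant subgroup. -/
theorem syl_inf {t : ℕ} [Fact t.Prime] {P H : Subgroup G} (hP : Syl A K t P) (hHK : H ≤ K)
    (hH : A ≤ normalizer (H : Set G)) : Syl A H t (P ⊓ H) := by
  obtain ⟨S, h1, h2, h3, h4, h5⟩ := h.exists_sylow hHK hH t
  have : P ⊓ H = S := le_antisymm
    (h5 _ inf_le_right (hP.pg.to_le inf_le_left) (CfsgLib.Coprime.le_normalizer_inf_inf hP.norm hH))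
    (le_inf (hP.max S (h1.trans hHK) h2 h3) h1)
  rw [this]
  exact ⟨h1, h2, h3, h4, h5⟩

/-- An operand centralising the fixed points of a fixed-point-free element centralises everything. -/
theorem le_centralizer_of_fixed {r s : ℕ} [Fact r.Prime] [Fact s.Prime] (hrs : r ≠ s)
    {Q E : Subgroup G} (hQK : Q ≤ K) (hEK : E ≤ K) (hQ : IsPGroup s Q) (hE : IsPGroup r E)
    (hQA : A ≤ normalizer (Q : Set G)) (hEA : A ≤ normalizer (E : Set G))
    (hEQ : E ≤ normalizer (Q : Set G)) {x : G} (hx : x ∈ A) (hx1 : x ≠ 1)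
    (hEx : E ⊓ centralizer ({x} : Set G) = ⊥)
    (hQx : Q ⊓ centralizer ({x} : Set G) ≤ centralizer (E : Set G)) :
    E ≤ centralizer (Q : Set G) := by
  set T := ⁅Q, E⁆ with hTdef
  have hTQ : T ≤ Q := CfsgLib.Coprime.commutator_le_of_le_normalizer hEQ
  have hTA : A ≤ normalizer (T : Set G) := le_normalizer_commutator hQA hEA
  have hTE : E ≤ normalizer (T : Set G) := normalizer_commutator_ge_right Q E
  have hTT : ⁅T, E⁆ = T := CfsgLib.Coprime.commutator_commutator_eq hEQ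
    (coprime_of_ne hrs hE hQ) (Or.inr (solvable_of_pGroup hQ))
  by_contra hcon
  have hTne : T ≠ ⊥ := fun e => hcon
    (le_centralizer_iff.1 (commutator_eq_bot_iff_le_centralizer.1 e))
  set S := ⁅T, T⁆ with hSdef
  have hST : S ≤ T := commutator_le_self T
  suffices hle : T ≤ S by
    haveI := solvable_of_pGroup (hQ.to_le hTQ)
    haveI : Nontrivial T := (nontrivial_iff_ne_bot T).2 hTne
    refine (Group.IsSolvable.commutator_lt_top_of_nontrivial T).ne (map_injective T.subtype_injective ?_)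
    rw [_root_.commutator_def, map_commutator, ← MonoidHom.range_eq_map, range_subtype]
    exact le_antisymm hST hle
  set Γ := normalizer (S : Set G) with hΓ
  have hTΓ : T ≤ Γ := le_normalizer_commutator le_normalizer le_normalizer
  have hEΓ : E ≤ Γ := le_normalizer_commutator hTE hTE
  have hAΓ : A ≤ Γ := le_normalizer_commutator hTA hTA
  haveI : (S.subgroupOf Γ).Normal := normal_subgroupOf_of_le_normalizer le_rfl
  set f : Γ →* Γ ⧸ S.subgroupOf Γ := QuotientGroup.mk' _ with hf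
  have hmem : ∀ g : Γ, f g = 1 → (g : G) ∈ S := fun g hg => (QuotientGroup.eq_one_iff g).1 hg
  set T0 := T.subgroupOf Γ with hT0
  set E0 := E.subgroupOf Γ with hE0
  set x0 : Γ := ⟨x, hAΓ hx⟩ with hx0
  have hsupK : T ⊔ E ≤ K := sup_le (hTQ.trans hQK) hEK
  have hsupA : A ≤ normalizer ((T ⊔ E : Subgroup G) : Set G) :=
    CfsgLib.Coprime.le_normalizer_sup_sup hTA hEA
  have hker : f.ker ≤ (T ⊔ E).subgroupOf Γ := by
    rw [hf, QuotientGroup.ker_mk']; exact fun v hv => mem_sup_left (hST hv)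
  have hq := ((h.mono hsupK hsupA).subgroupOf (sup_le hTΓ hEΓ) hAΓ).map f hker
  have hkerT : f.ker ≤ T0 := by
    rw [hf, QuotientGroup.ker_mk']; exact fun v hv => hST hv
  have hT := (h.toPre.mono (hTQ.trans hQK) hTA).subgroupOf hTΓ hAΓ
  haveI hTc : IsMulCommutative ↥(T0.map f) := ⟨⟨by
    rintro ⟨_, a, ha, rfl⟩ ⟨_, b, hb, rfl⟩
    refine Subtype.ext ?_
    show f a * f b = f b * f a
    rw [← map_mul, ← map_mul, hf, QuotientGroup.mk'_apply, QuotientGroup.mk'_apply,
      QuotientGroup.eq, mem_subgroupOf]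
    have h1 := commutator_mem_commutator (inv_mem (show (b : G) ∈ T from hb))
      (inv_mem (show (a : G) ∈ T from ha))
    simpa [commutatorElement_def, mul_assoc] using h1⟩⟩
  have hTbar : ⁅T0.map f, E0.map f⁆ = T0.map f := by
    rw [← map_commutator]
    congr 1
    apply map_injective Γ.subtype_injective
    rw [map_commutator, hT0, hE0, map_subgroupOf_eq_of_le hTΓ, map_subgroupOf_eq_of_le hEΓ, hTT]
  have hEn : E0.map f ≤ normalizer ((T0.map f : Subgroup _) : Set (Γ ⧸ S.subgroupOf Γ)) := by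
    refine le_normalizer_of_conj_mem ?_
    rintro _ ⟨e, he, rfl⟩ _ ⟨t, ht, rfl⟩
    exact ⟨e * t * e⁻¹, (mem_normalizer_iff.1 (hTE he) _).1 ht, by simp⟩
  have hcop : (Nat.card ↥(E0.map f)).Coprime (Nat.card ↥(T0.map f)) :=
    ((coprime_of_ne hrs hE (hQ.to_le hTQ)).coprime_dvd_left ((card_map_dvd _ f).trans (by
      rw [Nat.card_congr (subgroupOfEquivOfLe hEΓ).toEquiv]))).coprime_dvd_right
      ((card_map_dvd _ f).trans (by rw [Nat.card_congr (subgroupOfEquivOfLe hTΓ).toEquiv]))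
  have hfixE : E0.map f ⊓ centralizer ({f x0} : Set (Γ ⧸ S.subgroupOf Γ)) = ⊥ := by
    rw [eq_bot_iff]
    rintro _ ⟨⟨e, he, rfl⟩, hec⟩
    have h1 : (((x0 * e * x0⁻¹ * e⁻¹) : Γ) : G) ∈ S := hmem _ (by
      simp only [map_mul, map_inv]
      rw [← mem_centralizer_singleton_iff.1 hec]; group)
    have h2 : x * (e : G) * x⁻¹ * (e : G)⁻¹ ∈ E ⊓ T := mem_inf.2
      ⟨mul_mem ((mem_normalizer_iff.1 (hEA hx) _).1 he) (inv_mem he), hST (by simpa [hx0] using h1)⟩
    rw [CfsgLib.Coprime.inf_eq_bot_of_coprime (coprime_of_ne hrs hE (hQ.to_le hTQ)),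
      Subgroup.mem_bot, mul_inv_eq_one, mul_inv_eq_iff_eq_mul] at h2
    have h3 : (e : G) ∈ E ⊓ centralizer ({x} : Set G) :=
      mem_inf.2 ⟨he, mem_centralizer_singleton_iff.2 h2.symm⟩
    rw [hEx, Subgroup.mem_bot] at h3
    rw [Subgroup.mem_bot, show e = 1 from Subtype.ext h3, map_one]
  have hfixT : T0.map f ⊓ centralizer ({f x0} : Set (Γ ⧸ S.subgroupOf Γ)) = ⊥ := by
    rw [eq_bot_iff]
    refine le_trans ?_ (CfsgLib.Coprime.centralizer_inf_commutator_eq_bot hEn hcop).le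
    rintro _ ⟨⟨t, ht, rfl⟩, htc⟩
    obtain ⟨c, hc, hct⟩ := hT.lift f hkerT (zpowers x0) (Subgroup.zpowers_le.2 hx) t ht (by
      intro a ha
      obtain ⟨i, rfl⟩ := mem_zpowers_iff.1 ha
      rw [map_zpow]
      exact ((show Commute (f t) (f x0) from mem_centralizer_singleton_iff.1 htc).zpow_right i).eq.symm)
    refine mem_inf.2 ⟨mem_inf.2 ⟨mem_map_of_mem f ht, ?_⟩, hTbar.symm ▸ mem_map_of_mem f ht⟩
    rw [mem_centralizer_iff]
    rintro _ ⟨e, he, rfl⟩
    have hcx : (c : G) ∈ Q ⊓ centralizer ({x} : Set G) := mem_inf.2 ⟨hTQ hc.1,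
      mem_centralizer_singleton_iff.2
        (congrArg Subtype.val (mem_centralizer_iff.1 hc.2 x0 (mem_zpowers x0))).symm⟩
    rw [← hct, ← map_mul, ← map_mul]
    exact congrArg f (Subtype.ext (mem_centralizer_iff.1 (hQx hcx) _ he))
  have hx0ne : f x0 ≠ 1 := by
    intro e
    have h1 : x ∈ A ⊓ K := mem_inf.2 ⟨hx, hQK (hTQ (hST (hmem x0 e)))⟩
    rw [CfsgLib.Coprime.inf_eq_bot_of_coprime (h.coprime le_rfl), Subgroup.mem_bot] at h1
    exact hx1 h1
  have hAn : ∀ U : Subgroup G, A ≤ normalizer (U : Set G) →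
      (A.subgroupOf Γ).map f ≤ normalizer (((U.subgroupOf Γ).map f : Subgroup _) : Set (Γ ⧸ S.subgroupOf Γ)) := by
    intro U hU
    refine le_normalizer_of_conj_mem ?_
    rintro _ ⟨a, ha, rfl⟩ _ ⟨u, hu, rfl⟩
    exact ⟨a * u * a⁻¹, (mem_normalizer_iff.1 (hU ha) _).1 hu, by simp⟩
  have hcomm := hq.commute_of_fpf (W := T0.map f) (D := E0.map f)
    (map_mono fun g hg => mem_sup_left hg) (map_mono fun g hg => mem_sup_right hg)
    (hAn T hTA) (hAn E hEA) hEn hcop (mem_map_of_mem f (show x0 ∈ A.subgroupOf Γ from hx)) hx0ne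
    hfixT hfixE
  have hbot : T0.map f = ⊥ :=
    hTbar.symm.trans (commutator_eq_bot_iff_le_centralizer.2 (le_centralizer_iff.1 hcomm))
  intro t ht
  exact hmem ⟨t, hTΓ ht⟩ (by
    have : f ⟨t, hTΓ ht⟩ ∈ T0.map f := mem_map_of_mem f ht
    rwa [hbot, Subgroup.mem_bot] at this)

end Act

end CfsgLib.FgsB.AbCent
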